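import Groth.Agent.HypSq5.Setup
import Groth.Agent.Hyper24.Basic
import Groth.Agent.Hurwitz24.Generic

/-!
# Hyperelliptic curves: classes on the square
-/

set_option autoImplicit false
set_option linter.style.haveILetI false
set_option linter.unusedSectionVars false
set_option backward.isDefEq.respectTransparency.types false
set_option maxHeartbeats 1000000

universe u

open CategoryTheory CategoryTheory.Limits AlgebraicGeometry Opposite TopologicalSpace
open Groth.Agent.Coherent Groth.Agent.PicLib Groth.Agent.AmpleLib Groth.Agent.EulerLib Groth.Agent.CurveRR24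
open Groth.Agent.AbCubeLib Groth.Agent.VarietyLib Groth.Agent.EllGrp5

namespace Groth.Agent.HypSq5

variable (k : Type u) [Field k] {C : Scheme.{u}} [C.Over (Spec (CommRingCat.of k))]
  [IsProper (C ↘ Spec (CommRingCat.of k))] [Smooth (C ↘ Spec (CommRingCat.of k))] [ConnectedSpace ↥C]
  [IsAlgClosed k]
  (hdim : topologicalKrullDim ↥C = 1)

section Point

/-- The degree of a rational point. -/
theorem dC_point (hdim : topologicalKrullDim ↥C = 1) (x : Spec (CommRingCat.of k) ⟶ C)
    (hx : x ≫ (C ↘ Spec (CommRingCat.of k)) = 𝟙 _) {A : C.Modules} (hA : PicF.IsInvertible A)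
    (hAinv : ClSub.IsInverseOf A (ClSub.idealMod x.ker)) : dC k (PicM.of hA) = 1 := by
  haveI := smoothRD_C k hdim
  haveI := geomConn_C k (C := C)
  haveI := isClosedImmersion_section (C ↘ Spec (CommRingCat.of k)) x hx
  have hI := FlatMor12.IdealModGen.isInvertible_idealMod _ (isEffCartier_sec (C ↘ Spec (CommRingCat.of k)) x hx)
  rw [dC_inv k hdim (of_mul_eq_one hA hI hAinv), dC_of k hI,
    EllGrp5.deg_idealMod_section k x hx]
  norm_num

end Point

variable (κ : C ⟶ CohB1.ProjSpace 1 k) (hκ : κ ≫ CohB1.ProjSpace.toSpec 1 k = (C ↘ Spec (CommRingCat.of k)))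

/-- The class of the double cover. -/
noncomputable def cL : PicM C := PicM.pull κ (PicM.of (CurveRR24.isInvertible_twist_one k))

theorem cL_eq (h : PicF.IsInvertible ((Scheme.Modules.pullback κ).obj (Twist.twistProjSpace 1 k 1))) :
    PicM.of h = cL k κ := rfl

theorem isInvertible_L : PicF.IsInvertible ((Scheme.Modules.pullback κ).obj (Twist.twistProjSpace 1 k 1)) :=
  PicLoc.isInvertible_pullback κ (CurveRR24.isInvertible_twist_one k)

theorem of_tensorPow_L (n : ℕ)
    (h : PicF.IsInvertible (CohB1.tensorPow ((Scheme.Modules.pullback κ).obj (Twist.twistProjSpace 1 k 1)) n)) :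
    PicM.of h = cL k κ ^ n := by
  rw [← cL_eq k κ (isInvertible_L k κ), ← PicM.of_tensorPow]

/-- `p₁^*L^m ⊗ p₂^*L^m`. -/
noncomputable def cF (m : ℕ) : PicM (Sq k C) :=
  PicM.pull (p₁ k C) (cL k κ ^ m) * PicM.pull (p₂ k C) (cL k κ ^ m)

variable [IsFinite κ] [Flat κ] (hκ2 : ∀ y : ↥(CohB1.ProjSpace 1 k), κ.finrank y = 2)

include hdim hκ hκ2

theorem dC_cL : dC k (cL k κ) = 2 := by
  rw [← cL_eq k κ (isInvertible_L k κ), dC_of k]
  haveI := isIntegral_C k (C := C)
  exact (Clifford24.pbO_spec k hdim κ hκ hκ2).2.1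

theorem chi_cF (m : ℕ) :
    chi k (cF k κ m) = (2 * (m : ℤ) - ((Curv2.genus k C : ℤ) - 1)) ^ 2 := by
  rw [cF, chi_box k hdim, chiC_eq k hdim, dC_pow k hdim, dC_cL k hdim κ hκ hκ2]
  ring

omit hκ hκ2 in
/-- Pullback of a box class to a graph. -/
theorem pull_gr_cF (f : C ⟶ C) (hf : f ≫ (C ↘ Spec (CommRingCat.of k)) = C ↘ Spec (CommRingCat.of k))
    (hfκ : f ≫ κ = κ) (m : ℕ) : PicM.pull (gr k f hf) (cF k κ m) = cL k κ ^ (2 * m) := by
  rw [cF, map_mul, pull_gr_fst, pull_gr_snd, map_pow, cL, PicM.pull_pull, hfκ, ← pow_add, two_mul]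

/-- The canonical class through the double cover. -/
theorem pull_diag_idlG (hg : 1 ≤ Curv2.genus k C) :
    PicM.pull (gr k (𝟙 C) (Category.id_comp _)) (idlG k hdim (𝟙 C) (Category.id_comp _)) =
      cL k κ ^ (Curv2.genus k C - 1) := by
  haveI := isIntegral_C k (C := C)
  haveI := geomInt_C k (C := C)
  obtain ⟨hL, hdeg, h2⟩ := Clifford24.pbO_spec k hdim κ hκ hκ2
  obtain ⟨e⟩ := Clifford24.nonempty_tensorPow_iso_omega k hdim hL hdeg h2 hg
  rw [← of_tensorPow_L k κ _ (AmpleLib.isInvertible_tensorPow hL _),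
    idlG_eq k hdim _ _ (FlatMor12.IdealModGen.isInvertible_idealMod _ (isEffCartier_gr k hdim _ _)),
    PicM.pull_of, PicM.of_eq_iff]
  exact ⟨e.symm⟩

variable (σ : C ⟶ C) (hσ : σ ≫ κ = κ)
  (hσp : σ ≫ (C ↘ Spec (CommRingCat.of k)) = (C ↘ Spec (CommRingCat.of k)))

include hσ

/-- The conormal class of the graph of the involution. -/
theorem pull_gr_idlG (hg : 1 ≤ Curv2.genus k C) :
    PicM.pull (gr k σ hσp) (idlG k hdim σ hσp) = cL k κ ^ (Curv2.genus k C - 1) := by
  haveI := smoothRD_p₁ k hdim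
  let φ : Sq k C ⟶ Sq k C := pullback.lift (p₁ k C ≫ σ) (p₂ k C)
    (by rw [Category.assoc, hσp]; exact pullback.condition)
  have h1 : φ ≫ p₁ k C = p₁ k C ≫ σ := pullback.lift_fst _ _ _
  have h2 : φ ≫ p₂ k C = p₂ k C := pullback.lift_snd _ _ _
  have hsq : IsPullback φ (p₁ k C) (p₁ k C) σ := by
    refine IsPullback.of_right (h₁₂ := p₂ k C) (v₁₃ := C ↘ Spec (CommRingCat.of k))
      (h₂₂ := C ↘ Spec (CommRingCat.of k)) ?_ h1 (IsPullback.of_hasPullback _ _).flip
    rw [h2, hσp]
    exact (IsPullback.of_hasPullback _ _).flip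
  have e : gr k σ hσp ≫ φ = σ ≫ gr k (𝟙 C) (Category.id_comp _) := by
    apply pullback.hom_ext
    · rw [Category.assoc, show φ ≫ pullback.fst _ _ = _ from h1, ← Category.assoc, gr_fst, Category.assoc,
        gr_fst, Category.id_comp, Category.comp_id]
    · rw [Category.assoc, show φ ≫ pullback.snd _ _ = _ from h2, gr_snd, Category.assoc, gr_snd, Category.comp_id]
  have key : PicM.pull φ (idlG k hdim (𝟙 C) (Category.id_comp _)) = idlG k hdim σ hσp :=
    pull_idl (p₁ k C) hsq _ (gr_fst k _ _) _ (gr_fst k _ _) e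
  rw [← key, PicM.pull_pull, e, ← PicM.pull_pull, pull_diag_idlG k hdim κ hκ hκ2 hg, map_pow, cL, PicM.pull_pull, hσ]

omit hσ in
/-- The degree of the restriction of an inverse of a graph to the graph. -/
theorem dC_pull_inv (f : C ⟶ C) (hf : f ≫ (C ↘ Spec (CommRingCat.of k)) = C ↘ Spec (CommRingCat.of k))
    (hid : PicM.pull (gr k f hf) (idlG k hdim f hf) = cL k κ ^ (Curv2.genus k C - 1))
    (hg : 1 ≤ Curv2.genus k C)
    {n : PicM (Sq k C)} (hn : n * idlG k hdim f hf = 1) :
    dC k (PicM.pull (gr k f hf) n) = 2 - 2 * (Curv2.genus k C : ℤ) := by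
  have h := congrArg (PicM.pull (gr k f hf)) hn
  rw [map_mul, map_one, hid] at h
  rw [dC_inv k hdim h, dC_pow k hdim, dC_cL k hdim κ hκ hκ2, Nat.cast_sub hg]
  push_cast
  ring

include hσp in
/-- The involution has degree one. -/
theorem dC_pull_sigma {A : PicM C} : dC k (PicM.pull σ A) = dC k A := by
  haveI := isIntegral_C k (C := C)
  haveI := geomInt_C k (C := C)
  haveI := isNoetherian_of_proper (X := C) k
  haveI : IsFinite (σ ≫ κ) := by rw [hσ]; infer_instance
  haveI : IsFinite σ := IsFinite.of_comp σ κ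
  haveI := Hurwitz24.flat_of_dominant σ (Hyper24.map_generic_of_comp hdim κ σ hσ) hdim.le
    (fun y => Clifford24.isIntegrallyClosed_stalk_of_smooth k y)
  have hpull : ∀ b : PicM C, dC k (PicM.pull σ b) = (Scheme.Hom.finrank σ (genericPoint C) : ℤ) * dC k b := by
    intro b
    obtain ⟨M, hM, rfl⟩ := PicM.exists_eq_of b
    rw [PicM.pull_of, dC_of k, dC_of k, CurveRR24.deg_pullback k σ hσp hdim.le hM (genericPoint C)]
  have h := hpull (cL k κ)
  have hp : PicM.pull σ (cL k κ) = cL k κ := by rw [cL, PicM.pull_pull, hσ]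
  rw [hp, dC_cL k hdim κ hκ hκ2] at h
  rw [hpull A]
  have : (Scheme.Hom.finrank σ (genericPoint C) : ℤ) = 1 := by omega
  rw [this, one_mul]

end Groth.Agent.HypSq5
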