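import Groth.Agent.HypSq5.Classes

/-!
# Intersection numbers and Euler characteristics on the square
-/

set_option autoImplicit false
set_option linter.style.haveILetI false
set_option linter.unusedSectionVars false
set_option backward.isDefEq.respectTransparency.types false
set_option maxHeartbeats 1000000

universe u

open CategoryTheory CategoryTheory.Limits AlgebraicGeometry Opposite TopologicalSpace
open Groth.Agent.Coherent Groth.Agent.PicLib Groth.Agent.AmpleLib Groth.Agent.EulerLib Groth.Agent.CurveRR24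
open Groth.Agent.AbCubeLib Groth.Agent.VarietyLib Groth.Agent.EllGrp5

namespace Groth.Agent.HypSq5

variable (k : Type u) [Field k] {C : Scheme.{u}} [C.Over (Spec (CommRingCat.of k))]
  [IsProper (C ↘ Spec (CommRingCat.of k))] [Smooth (C ↘ Spec (CommRingCat.of k))] [ConnectedSpace ↥C]
  [IsAlgClosed k]
  (hdim : topologicalKrullDim ↥C = 1)

/-- The intersection pairing on classes. -/
noncomputable def BX (a b : PicM (Sq k C)) : ℤ := chi k (a * b) - chi k a - chi k b + chi k (1 : PicM (Sq k C))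

include hdim in
theorem intNum_eq_BX {L M : (Sq k C).Modules} (hL : PicF.IsInvertible L) (hM : PicF.IsInvertible M) :
    FGA.intNum k (Sq k C) 2 ![L, M] (Coh.structureModule (Sq k C)) = BX k (PicM.of hL) (PicM.of hM) := by
  rw [Surf15.intNum_eq_B k (dim_sq k hdim) hL hM, Surf15.B, BX, chi, chi, chi, chi, map_mul, map_one,
    invOf_of, invOf_of]

/-- Intersection with a graph is the degree of the restriction. -/
theorem BX_graph (f : C ⟶ C) (hf : f ≫ (C ↘ Spec (CommRingCat.of k)) = C ↘ Spec (CommRingCat.of k))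
    {n : PicM (Sq k C)} (hn : n * idlG k hdim f hf = 1) (x : PicM (Sq k C)) :
    BX k x n = dC k (PicM.pull (gr k f hf) x) := by
  have h1 := chi_cut k hdim f hf hn x
  have h2 := chi_cut k hdim f hf hn 1
  rw [mul_one] at h2
  rw [chiC_eq k hdim, map_mul, dC_mul k hdim] at h1
  rw [chiC_eq k hdim] at h2
  rw [BX, mul_comm x]
  omega

include hdim in
theorem chi_one : chi k (1 : PicM (Sq k C)) = ((Curv2.genus k C : ℤ) - 1) ^ 2 := by
  have h := chi_box k hdim (1 : PicM C) 1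
  simp only [map_one, mul_one, chiC_eq k hdim, dC_one] at h
  rw [h]
  ring

include hdim in
theorem BX_fst_fst (a b : PicM C) : BX k (PicM.pull (p₁ k C) a) (PicM.pull (p₁ k C) b) = 0 := by
  have h : ∀ c : PicM C, chi k (PicM.pull (p₁ k C) c) = chiC k c * chiC k (1 : PicM C) := fun c => by
    rw [← chi_box k hdim c 1, map_one, mul_one]
  rw [BX, ← map_mul, h, h, h, chi_one k hdim, chiC_eq k hdim, chiC_eq k hdim, chiC_eq k hdim, chiC_eq k hdim,
    dC_mul k hdim, dC_one]
  ring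

include hdim in
theorem BX_fst_snd (a b : PicM C) :
    BX k (PicM.pull (p₁ k C) a) (PicM.pull (p₂ k C) b) = dC k a * dC k b := by
  have h1 : chi k (PicM.pull (p₁ k C) a) = chiC k a * chiC k (1 : PicM C) := by rw [← chi_box k hdim a 1, map_one, mul_one]
  have h2 : chi k (PicM.pull (p₂ k C) b) = chiC k (1 : PicM C) * chiC k b := by rw [← chi_box k hdim 1 b, map_one, one_mul]
  rw [BX, chi_box k hdim, h1, h2, chi_one k hdim, chiC_eq k hdim, chiC_eq k hdim, chiC_eq k hdim, dC_one]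
  ring

/-- The Euler characteristic along powers of a graph class. -/
theorem chi_mul_pow (f : C ⟶ C) (hf : f ≫ (C ↘ Spec (CommRingCat.of k)) = C ↘ Spec (CommRingCat.of k))
    {n : PicM (Sq k C)} (hn : n * idlG k hdim f hf = 1) (x : PicM (Sq k C)) (d : ℤ)
    (hd : dC k (PicM.pull (gr k f hf) x) = d) (ν : ℤ) (hν : dC k (PicM.pull (gr k f hf) n) = ν) :
    ∀ r : ℕ, 2 * chi k (x * n ^ r) = 2 * chi k x + 2 * r * (d + 1 - (Curv2.genus k C : ℤ)) + r * (r + 1) * ν
  | 0 => by simp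
  | r + 1 => by
    have ih := chi_mul_pow f hf hn x d hd ν hν r
    have h := chi_cut k hdim f hf hn (x * n ^ r)
    rw [mul_left_comm, ← pow_succ', chiC_eq k hdim, map_mul, dC_mul k hdim, map_pow, dC_pow k hdim, hd, hν] at h
    push_cast at h ⊢
    linear_combination ih + 2 * h

variable (κ : C ⟶ CohB1.ProjSpace 1 k) (hκ : κ ≫ CohB1.ProjSpace.toSpec 1 k = (C ↘ Spec (CommRingCat.of k)))
  [IsFinite κ] [Flat κ] (hκ2 : ∀ y : ↥(CohB1.ProjSpace 1 k), κ.finrank y = 2)
  (σ : C ⟶ C) (hσ : σ ≫ κ = κ) (hσp : σ ≫ (C ↘ Spec (CommRingCat.of k)) = (C ↘ Spec (CommRingCat.of k)))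
  (hg : 1 ≤ Curv2.genus k C)

include hκ hκ2 hg

include hσ in
theorem chi_cF_pow {n : PicM (Sq k C)} (hn : n * idlG k hdim σ hσp = 1) (m r : ℕ) :
    chi k (cF k κ m * n ^ r) =
      (2 * (m : ℤ) - ((Curv2.genus k C : ℤ) - 1)) ^ 2 + 4 * (m : ℤ) * r -
        ((Curv2.genus k C : ℤ) - 1) * r * (r + 2) := by
  have hν := dC_pull_inv k hdim κ hκ hκ2 σ hσp (pull_gr_idlG k hdim κ hκ hκ2 σ hσ hσp hg) hg hn
  have hd : dC k (PicM.pull (gr k σ hσp) (cF k κ m)) = 4 * (m : ℤ) := by
    rw [pull_gr_cF k hdim κ σ hσp hσ, dC_pow k hdim, dC_cL k hdim κ hκ hκ2]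
    push_cast
    ring
  have h := chi_mul_pow k hdim σ hσp hn _ _ hd _ hν r
  rw [chi_cF k hdim κ hκ hκ2] at h
  linarith

include hσ in
theorem chi_point_pow {n : PicM (Sq k C)} (hn : n * idlG k hdim σ hσp = 1) {A : PicM C} (hA : dC k A = 1)
    (a b r : ℕ) :
    chi k (PicM.pull (p₁ k C) (A ^ a) * PicM.pull (p₂ k C) (A ^ b) * n ^ r) =
      ((a : ℤ) - ((Curv2.genus k C : ℤ) - 1)) * ((b : ℤ) - ((Curv2.genus k C : ℤ) - 1)) + (r : ℤ) * (a + b) -
        ((Curv2.genus k C : ℤ) - 1) * r * (r + 2) := by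
  have hν := dC_pull_inv k hdim κ hκ hκ2 σ hσp (pull_gr_idlG k hdim κ hκ hκ2 σ hσ hσp hg) hg hn
  have hd : dC k (PicM.pull (gr k σ hσp) (PicM.pull (p₁ k C) (A ^ a) * PicM.pull (p₂ k C) (A ^ b))) =
      (a : ℤ) + b := by
    rw [map_mul, pull_gr_fst, pull_gr_snd, dC_mul k hdim, dC_pull_sigma k hdim κ hκ hκ2 σ hσ hσp,
      dC_pow k hdim, dC_pow k hdim, hA, mul_one, mul_one]
  have h := chi_mul_pow k hdim σ hσp hn _ _ hd _ hν r
  rw [chi_box k hdim, chiC_eq k hdim, chiC_eq k hdim, dC_pow k hdim, dC_pow k hdim, hA] at h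
  linarith

end Groth.Agent.HypSq5
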