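import Groth.Agent.HypSq5.Points
import Groth.Agent.HypSq5.Numbers
import Groth.Agent.CubeLib.FibreRankLoci
import Groth.Agent.CubeLib.FibrewiseTriv
import Groth.Agent.SeeSaw5.Locus

/-!
# The graph of the involution and the diagonal
-/

set_option autoImplicit false
set_option linter.style.haveILetI false
set_option linter.unusedSectionVars false
set_option backward.isDefEq.respectTransparency.types false
set_option maxHeartbeats 1000000

universe u

open CategoryTheory CategoryTheory.Limits AlgebraicGeometry Opposite TopologicalSpace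
open Groth.Agent.Coherent Groth.Agent.PicLib Groth.Agent.AmpleLib Groth.Agent.EulerLib Groth.Agent.CurveRR24
open Groth.Agent.AbCubeLib Groth.Agent.VarietyLib Groth.Agent.EllGrp5

namespace Groth.Agent.HypSq5

variable (k : Type u) [Field k] {C : Scheme.{u}} [C.Over (Spec (CommRingCat.of k))]
  [IsProper (C ↘ Spec (CommRingCat.of k))] [Smooth (C ↘ Spec (CommRingCat.of k))] [ConnectedSpace ↥C]
  [IsAlgClosed k]
  (hdim : topologicalKrullDim ↥C = 1)
  (κ : C ⟶ CohB1.ProjSpace 1 k) (hκ : κ ≫ CohB1.ProjSpace.toSpec 1 k = (C ↘ Spec (CommRingCat.of k)))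
  [IsFinite κ] [Flat κ] (hκ2 : ∀ y : ↥(CohB1.ProjSpace 1 k), κ.finrank y = 2)
  (σ : C ⟶ C) (hσ : σ ≫ κ = κ) (hσ1 : σ ≠ 𝟙 C)
  (hσp : σ ≫ (C ↘ Spec (CommRingCat.of k)) = (C ↘ Spec (CommRingCat.of k)))
  (hg : 2 ≤ Curv2.genus k C)

include hdim hκ hκ2 hσ hσ1 hσp hg in
theorem sigma_sigma : σ ≫ σ = 𝟙 C := by
  haveI := isIntegral_C k (C := C)
  by_contra hne
  have h := Hyper24.involution_unique hdim hg κ κ hκ hκ hκ2 hκ2 (σ ≫ σ) σ
    (by rw [Category.assoc, hσ, hσ]) hne hσ hσ1
  haveI := Hurwitz24.isDominant_of_generic σ (Hyper24.map_generic_of_comp hdim κ σ hσ)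
  refine hσ1 (ext_of_isDominant_of_isSeparated (C ↘ Spec (CommRingCat.of k)) (by rw [hσp, Category.id_comp]) σ ?_)
  rw [h, Category.comp_id]

/-- The vertical section at a rational point. -/
noncomputable abbrev vert (x : Spec (CommRingCat.of k) ⟶ C)
    (hx : x ≫ (C ↘ Spec (CommRingCat.of k)) = 𝟙 _) : C ⟶ Sq k C :=
  pullback.lift ((C ↘ Spec (CommRingCat.of k)) ≫ x) (𝟙 C) (by rw [Category.assoc, hx, Category.comp_id, Category.id_comp])

/-- The horizontal section at a rational point. -/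
noncomputable abbrev horiz (x : Spec (CommRingCat.of k) ⟶ C)
    (hx : x ≫ (C ↘ Spec (CommRingCat.of k)) = 𝟙 _) : C ⟶ Sq k C :=
  pullback.lift (𝟙 C) ((C ↘ Spec (CommRingCat.of k)) ≫ x) (by rw [Category.assoc, hx, Category.comp_id, Category.id_comp])

theorem isPullback_vert (x : Spec (CommRingCat.of k) ⟶ C) (hx : x ≫ (C ↘ Spec (CommRingCat.of k)) = 𝟙 _) :
    IsPullback (vert k x hx) (C ↘ Spec (CommRingCat.of k)) (p₁ k C) x := by
  refine IsPullback.of_right (h₁₂ := p₂ k C) (v₁₃ := C ↘ Spec (CommRingCat.of k))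
    (h₂₂ := C ↘ Spec (CommRingCat.of k)) ?_ (pullback.lift_fst _ _ _) (IsPullback.of_hasPullback _ _).flip
  rw [show vert k x hx ≫ p₂ k C = 𝟙 C from pullback.lift_snd _ _ _, hx]
  exact IsPullback.of_horiz_isIso ⟨by rw [Category.id_comp, Category.comp_id]⟩

theorem isPullback_horiz (x : Spec (CommRingCat.of k) ⟶ C) (hx : x ≫ (C ↘ Spec (CommRingCat.of k)) = 𝟙 _) :
    IsPullback (horiz k x hx) (C ↘ Spec (CommRingCat.of k)) (p₂ k C) x := by
  refine IsPullback.of_right (h₁₂ := p₁ k C) (v₁₃ := C ↘ Spec (CommRingCat.of k))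
    (h₂₂ := C ↘ Spec (CommRingCat.of k)) ?_ (pullback.lift_snd _ _ _) (IsPullback.of_hasPullback _ _)
  rw [show horiz k x hx ≫ p₁ k C = 𝟙 C from pullback.lift_fst _ _ _, hx]
  exact IsPullback.of_horiz_isIso ⟨by rw [Category.id_comp, Category.comp_id]⟩

theorem pull_const (x : Spec (CommRingCat.of k) ⟶ C) (c : PicM C) :
    PicM.pull ((C ↘ Spec (CommRingCat.of k)) ≫ x) c = 1 := by
  rw [← PicM.pull_pull, PicM.eq_one_of_field k (PicM.pull x c), map_one]

/-- `F_1 ⊗ I_Δ ⊗ I_σ`. -/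
noncomputable def cR : PicM (Sq k C) :=
  cF k κ 1 * (idlG k hdim (𝟙 C) (Category.id_comp _) * idlG k hdim σ hσp)

include hκ hκ2 hσ in
theorem pull_vert_cR (x : Spec (CommRingCat.of k) ⟶ C) (hx : x ≫ (C ↘ Spec (CommRingCat.of k)) = 𝟙 _)
    (hne : ∀ pt, x pt ≠ σ (x pt)) : PicM.pull (vert k x hx) (cR k hdim κ σ hσp) = 1 := by
  haveI := smoothRD_p₁ k hdim
  haveI := smoothRD_C k hdim
  have hxσ : (x ≫ σ) ≫ (C ↘ Spec (CommRingCat.of k)) = 𝟙 _ := by rw [Category.assoc, hσp, hx]
  have v1 : vert k x hx ≫ p₁ k C = (C ↘ Spec (CommRingCat.of k)) ≫ x := pullback.lift_fst _ _ _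
  have v2 : vert k x hx ≫ p₂ k C = 𝟙 C := pullback.lift_snd _ _ _
  have e1 : PicM.pull (vert k x hx) (idlG k hdim (𝟙 C) (Category.id_comp _)) = idP k hdim x hx := by
    refine pull_idl (p₁ k C) (isPullback_vert k x hx) _ (gr_fst k _ _) x hx ?_
    apply pullback.hom_ext
    · rw [Category.assoc, show vert k x hx ≫ pullback.fst _ _ = _ from v1, Category.assoc, gr_fst, ← Category.assoc, hx,
        Category.id_comp, Category.comp_id]
    · rw [Category.assoc, show vert k x hx ≫ pullback.snd _ _ = _ from v2, Category.assoc, gr_snd]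
  have e2 : PicM.pull (vert k x hx) (idlG k hdim σ hσp) = idP k hdim (x ≫ σ) hxσ := by
    refine pull_idl (p₁ k C) (isPullback_vert k x hx) _ (gr_fst k _ _) (x ≫ σ) hxσ ?_
    apply pullback.hom_ext
    · rw [Category.assoc, show vert k x hx ≫ pullback.fst _ _ = _ from v1, Category.assoc x (gr k σ hσp), gr_fst,
        ← Category.assoc, hxσ, Category.id_comp, Category.comp_id]
    · rw [Category.assoc, show vert k x hx ≫ pullback.snd _ _ = _ from v2, Category.comp_id, Category.assoc, gr_snd]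
  rw [cR, map_mul, map_mul, e1, e2, cF, map_mul, PicM.pull_pull, PicM.pull_pull, v1, v2, pull_const, one_mul, PicM.pull_id,
    pow_one]
  exact cL_mul_idP k hdim κ hκ hκ2 x (x ≫ σ) hx hxσ (by rw [Category.assoc, hσ]) hne

include hκ hκ2 hσ hσ1 hg in
theorem pull_horiz_cR (x : Spec (CommRingCat.of k) ⟶ C) (hx : x ≫ (C ↘ Spec (CommRingCat.of k)) = 𝟙 _)
    (hne : ∀ pt, x pt ≠ σ (x pt)) : PicM.pull (horiz k x hx) (cR k hdim κ σ hσp) = 1 := by
  have hss := sigma_sigma k hdim κ hκ hκ2 σ hσ hσ1 hσp hg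
  haveI : IsIso σ := ⟨σ, hss, hss⟩
  haveI := smoothRD_C k hdim
  haveI : SmoothOfRelativeDimension 1 (p₂ k C) :=
    haveI := smoothOfRelativeDimension_isStableUnderBaseChange (n := 1)
    MorphismProperty.pullback_snd (P := @SmoothOfRelativeDimension 1) _ _ (smoothRD_C k hdim)
  have hxσ : (x ≫ σ) ≫ (C ↘ Spec (CommRingCat.of k)) = 𝟙 _ := by rw [Category.assoc, hσp, hx]
  have v1 : horiz k x hx ≫ p₁ k C = 𝟙 C := pullback.lift_fst _ _ _
  have v2 : horiz k x hx ≫ p₂ k C = (C ↘ Spec (CommRingCat.of k)) ≫ x := pullback.lift_snd _ _ _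
  have e1 : PicM.pull (horiz k x hx) (idlG k hdim (𝟙 C) (Category.id_comp _)) = idP k hdim x hx := by
    have h : idlG k hdim (𝟙 C) (Category.id_comp _) =
        idl (p₂ k C) (gr k (𝟙 C) (Category.id_comp _)) (gr_snd k _ _) := rfl
    rw [h]
    refine pull_idl (p₂ k C) (isPullback_horiz k x hx) _ (gr_snd k _ _) x hx ?_
    apply pullback.hom_ext
    · rw [Category.assoc, show horiz k x hx ≫ pullback.fst _ _ = _ from v1, Category.assoc, gr_fst]
    · rw [Category.assoc, show horiz k x hx ≫ pullback.snd _ _ = _ from v2, Category.assoc, gr_snd, ← Category.assoc, hx,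
        Category.id_comp, Category.comp_id]
  have e2 : PicM.pull (horiz k x hx) (idlG k hdim σ hσp) = idP k hdim (x ≫ σ) hxσ := by
    have hP : (σ ≫ gr k σ hσp) ≫ p₂ k C = 𝟙 C := by rw [Category.assoc, gr_snd, hss]
    have h : idlG k hdim σ hσp = idl (p₂ k C) (σ ≫ gr k σ hσp) hP := by
      rw [idlG_eq k hdim σ hσp (FlatMor12.IdealModGen.isInvertible_idealMod _ (isEffCartier_gr k hdim σ hσp)),
        idl, PicM.of_eq_iff, Scheme.Hom.ker_comp_of_isIso]
      exact ⟨Iso.refl _⟩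
    rw [h]
    refine pull_idl (p₂ k C) (isPullback_horiz k x hx) _ hP (x ≫ σ) hxσ ?_
    apply pullback.hom_ext
    · rw [Category.assoc, show horiz k x hx ≫ pullback.fst _ _ = _ from v1, Category.comp_id, Category.assoc,
        Category.assoc σ, gr_fst, Category.comp_id]
    · rw [Category.assoc, show horiz k x hx ≫ pullback.snd _ _ = _ from v2, ← Category.assoc, hxσ, Category.id_comp,
        Category.assoc, show (σ ≫ gr k σ hσp) ≫ pullback.snd _ _ = _ from hP, Category.comp_id]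
  rw [cR, map_mul, map_mul, e1, e2, cF, map_mul, PicM.pull_pull, PicM.pull_pull, v1, v2, pull_const, mul_one, PicM.pull_id,
    pow_one]
  exact cL_mul_idP k hdim κ hκ hκ2 x (x ≫ σ) hx hxσ (by rw [Category.assoc, hσ]) hne

include hκ hκ2 hσ hσ1 hg in
/-- `Δ + Γ_σ ~ p₁^*D + p₂^*D`. -/
theorem cR_eq_one : cR k hdim κ σ hσp = 1 := by
  haveI := isIntegral_C k (C := C)
  haveI := geomInt_C k (C := C)
  haveI := isNoetherian_of_proper (X := C) k
  haveI : GeometricallyIntegral (p₁ k C) :=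
    inferInstanceAs (GeometricallyIntegral (pullback.fst (C ↘ Spec (CommRingCat.of k)) (C ↘ Spec (CommRingCat.of k))))
  haveI := AbSchLib.geometricallyConnected_of_irreducible (p₁ k C)
  haveI : Flat (p₁ k C) := inferInstanceAs (Flat (pullback.fst _ _))
  obtain ⟨L, hL, ha⟩ := PicM.exists_eq_of (cR k hdim κ σ hσp)
  haveI : IsLocallyNoetherian (Sq k C) := LocallyOfFiniteType.isLocallyNoetherian (p₁ k C)
  have hint : ∀ y : C, IsIntegral ((p₁ k C).fiber y) := fun y => SeeSaw5.isIntegral_fiber (f := p₁ k C) y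
  have hcl := CubeLib.isClosed_setOf_trivial_fibre (f := p₁ k C) hint hL
  rw [← ha] at hcl
  have hgood : ∀ y : C, IsClosed ({y} : Set C) → σ y ≠ y →
      PicM.pull ((p₁ k C).fiberι y) (cR k hdim κ σ hσp) = 1 := by
    intro y hy hne
    let q := C ↘ Spec (CommRingCat.of k)
    let x := pointOfClosedPoint q y hy
    have hx : x ≫ q = 𝟙 _ := pointOfClosedPoint_comp q y hy
    have h := pull_vert_cR k hdim κ hκ hκ2 σ hσ hσp x hx
      (fun pt => by rw [show x pt = y from pointOfClosedPoint_apply q y hy pt]; exact hne.symm)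
    let ψ : (p₁ k C).fiber y ⟶ C := (p₁ k C).fiberι y ≫ p₂ k C
    have hfac : (p₁ k C).fiberι y = ψ ≫ vert k x hx := by
      apply pullback.hom_ext
      · rw [Category.assoc ψ, pullback.lift_fst, Category.assoc, ← Category.assoc (p₂ k C),
          ← pullback.condition, Category.assoc, ← Category.assoc ((p₁ k C).fiberι y)]
        show (p₁ k C).fiberι y ≫ p₁ k C = ((p₁ k C).fiberι y ≫ p₁ k C) ≫ q ≫
          Spec.map (residueFieldIsoBase q y hy).hom ≫ C.fromSpecResidueField y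
        rw [Scheme.Hom.fiber_fac, Category.assoc, ← Category.assoc _ q,
          ← SpecMap_residueFieldIsoBase_inv q y hy, ← Category.assoc (Spec.map _) (Spec.map _), ← Spec.map_comp,
          Iso.hom_inv_id, Spec.map_id, Category.id_comp]
      · rw [Category.assoc ψ, pullback.lift_snd, Category.comp_id]
    rw [hfac, ← PicM.pull_pull, h, map_one]
  have hex : ∀ (S : Set C), IsOpen S → S.Nonempty → ∃ y ∈ S, IsClosed ({y} : Set C) ∧ σ y ≠ y := by
    intro S hS hne
    by_contra hcon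
    push Not at hcon
    refine hσ1 ?_
    haveI : LocallyOfFiniteType (σ ≫ (C ↘ Spec (CommRingCat.of k))) := by rw [hσp]; infer_instance
    exact ext_of_apply_eq (C ↘ Spec (CommRingCat.of k)) S hS.isLocallyClosed (hS.dense hne)
      (fun y hy hc => hcon y hy hc) (by rw [hσp, Category.id_comp])
  have hall : ∀ y : C, PicM.pull ((p₁ k C).fiberι y) (cR k hdim κ σ hσp) = 1 := by
    by_contra hcon
    push Not at hcon
    obtain ⟨y, hy⟩ := hcon
    obtain ⟨z, hz, hzc, hzne⟩ := hex _ hcl.isOpen_compl ⟨y, hy⟩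
    exact hz (hgood z hzc hzne)
  obtain ⟨b, hb⟩ := CubeLib.exists_pull_eq (CubeLib.bijective_algebraMap_fibre (p₁ k C)) _ hall
  obtain ⟨z, -, hzc, hzne⟩ := hex Set.univ isOpen_univ ⟨genericPoint C, trivial⟩
  let x := pointOfClosedPoint (C ↘ Spec (CommRingCat.of k)) z hzc
  have hx : x ≫ (C ↘ Spec (CommRingCat.of k)) = 𝟙 _ := pointOfClosedPoint_comp _ z hzc
  have h := pull_horiz_cR k hdim κ hκ hκ2 σ hσ hσ1 hσp hg x hx
    (fun pt => by rw [show x pt = z from pointOfClosedPoint_apply _ z hzc pt]; exact hzne.symm)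
  rw [← hb, PicM.pull_pull, show horiz k x hx ≫ p₁ k C = 𝟙 C from pullback.lift_fst _ _ _, PicM.pull_id] at h
  rw [← hb, h, map_one]

end Groth.Agent.HypSq5
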