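import Groth.Agent.HypSq5.Classes
import Groth.Agent.SDiv28.BlowUp
import Groth.Agent.Inters29.PullIdeal
import Groth.Agent.KRR28.Twist
import Groth.Agent.Lef23.ProZeroX
import Groth.Agent.Dual22Lib.ProjSmooth
import Groth.Agent.CurveRR24.RatPoint
import Groth.Agent.CurveRR24.Ample
import Groth.Agent.CurveRR24.DoubleCover.Morphism

/-!
# Fibres of the double cover as classes
-/

set_option autoImplicit false
set_option linter.style.haveILetI false
set_option linter.unusedSectionVars false
set_option backward.isDefEq.respectTransparency.types false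
set_option maxHeartbeats 1000000

universe u

open CategoryTheory CategoryTheory.Limits AlgebraicGeometry Opposite TopologicalSpace
open Groth.Agent.Coherent Groth.Agent.PicLib Groth.Agent.AmpleLib Groth.Agent.EulerLib Groth.Agent.CurveRR24
open Groth.Agent.AbCubeLib Groth.Agent.VarietyLib Groth.Agent.EllGrp5

namespace Groth.Agent.HypSq5

variable (k : Type u) [Field k]

/-- The class of a rational point of the projective line. -/
theorem idl_P1 (y : Spec (CommRingCat.of k) ⟶ CohB1.ProjSpace 1 k)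
    (hy : y ≫ CohB1.ProjSpace.toSpec 1 k = 𝟙 _) :
    BlowUp.IsEffCartierIdeal y.ker ∧ ∀ h : PicF.IsInvertible (ClSub.idealMod y.ker),
      PicM.of h * PicM.of (CurveRR24.isInvertible_twist_one k) = 1 := by
  haveI := CurveLib.isIntegral_projSpace k 1
  letI : (CohB1.ProjSpace 1 k).Over (Spec (CommRingCat.of k)) := ⟨CohB1.ProjSpace.toSpec 1 k⟩
  haveI : IsProper (CohB1.ProjSpace.toSpec 1 k) := CurveLib.isProper_projSpace k 1
  haveI : IsProper ((CohB1.ProjSpace 1 k) ↘ Spec (CommRingCat.of k)) :=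
    inferInstanceAs (IsProper (CohB1.ProjSpace.toSpec 1 k))
  haveI : Smooth (CohB1.ProjSpace.toSpec 1 k) := Dual22Lib.ProjSmooth.smooth_toSpec 1 k
  have hd : topologicalKrullDim ↥(CohB1.ProjSpace 1 k) = 1 := DimLib.PN.topologicalKrullDim_projSpace 1 k
  haveI := smoothRD_of_dim (CohB1.ProjSpace.toSpec 1 k) hd
  refine ⟨isEffCartier_sec (CohB1.ProjSpace.toSpec 1 k) y hy, fun h => ?_⟩
  obtain ⟨pt⟩ : Nonempty (Spec (CommRingCat.of k)) := inferInstanceAs (Nonempty (PrimeSpectrum k))
  have hdeg : Curv2.deg k _ (ClSub.idealMod y.ker) 1 = -1 := by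
    rw [ker_section y hy pt, deg_ptIdeal k (isClosed_section_point y hy pt), finrank_resField_section y hy pt]
    norm_num
  have hT := CurveRR24.isInvertible_twist_one k
  have hM := AmpleLib.isInvertible_tensorMod h hT
  have hd0 : Curv2.deg k _ (CohB1.tensorMod (ClSub.idealMod y.ker) (Twist.twistProjSpace 1 k 1)) 1 = 0 := by
    rw [deg_tensor k hd.le h hT, hdeg, CurveRR24.deg_twist_one]
    norm_num
  have hg0 : Curv2.genus k (CohB1.ProjSpace 1 k) = 0 :=
    CurveRR24.genus_of_iso_projLine k (Iso.refl _) (Category.id_comp _)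
  have hrr := riemann_roch k hd.le hM
  have hpos : 0 < Module.finrank k (Coh.HH (CohB1.ProjSpace 1 k) (Coh.structureModule _) 0) :=
    CurveRR24.h0_structure_pos k
  rw [hd0, hg0] at hrr
  obtain ⟨e⟩ := (deg_nonneg_of_section k hd.le hM
    (Module.nontrivial_of_finrank_pos (R := k) (by omega))).2.1 hd0
  rw [PicM.of_mul, PicM.of_eq_one_iff]
  exact ⟨e⟩

variable {C : Scheme.{u}} [C.Over (Spec (CommRingCat.of k))]
  [IsProper (C ↘ Spec (CommRingCat.of k))] [Smooth (C ↘ Spec (CommRingCat.of k))] [ConnectedSpace ↥C]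
  [IsAlgClosed k]
  (hdim : topologicalKrullDim ↥C = 1)

include hdim in
/-- Nested divisors of equal degree have equal classes. -/
theorem of_idealMod_eq_of_le {A B : C.IdealSheafData} (hA : PicF.IsInvertible (ClSub.idealMod A))
    (hB : PicF.IsInvertible (ClSub.idealMod B)) (hle : A ≤ B) (hd : dC k (PicM.of hA) = dC k (PicM.of hB)) :
    PicM.of hA = PicM.of hB := by
  haveI := isIntegral_C k (C := C)
  haveI := isNoetherian_of_proper (X := C) k
  obtain ⟨b, hb⟩ := PicM.exists_mul_eq_one (PicM.of hA)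
  obtain ⟨M, hM, rfl⟩ := PicM.exists_eq_of b
  have hbe := hb
  rw [PicM.of_mul, PicM.of_eq_one_iff] at hbe
  obtain ⟨e⟩ := hbe
  have hL := AmpleLib.isInvertible_tensorMod hB hM
  have hincl : Mono (Lef23.idealIncl hle) := by
    haveI := AmpleLib.mono_idealModι A
    haveI : Mono (Lef23.idealIncl hle ≫ ClSub.idealModι B) := by rw [Lef23.idealIncl_ι]; infer_instance
    exact mono_of_mono _ (ClSub.idealModι B)
  haveI := hincl
  haveI := EulerLib.mono_tensorMap hM (Lef23.idealIncl hle)
  let t : Coh.structureModule C ⟶ CohB1.tensorMod (ClSub.idealMod B) M :=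
    e.inv ≫ AmpleLib.tensorMap (Lef23.idealIncl hle) (𝟙 M)
  haveI : Mono t := mono_comp _ _
  let S := ShortComplex.mk t (cokernel.π t) (cokernel.condition t)
  have hS : S.ShortExact := { exact := ShortComplex.exact_cokernel t, mono_f := ‹Mono t›, epi_g := inferInstance }
  have hinj : Function.Injective (postA (baseHom k C) t (⊤ : C.Opens) 0) :=
    EulerLib.postA_zero_injective (baseHom k C) hS ⊤
  haveI := finite_HH_of_isCoh k (isCoh_of_isInvertible k hL) 0
  haveI : Module.Finite k (HA (baseHom k C) (CohB1.tensorMod (ClSub.idealMod B) M) (⊤ : C.Opens) 0) :=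
    Module.Finite.equiv (HHBaseEquiv k _ 0)
  have h1 := LinearMap.finrank_le_finrank_of_injective hinj
  rw [← (HHBaseEquiv k _ 0).finrank_eq, ← (HHBaseEquiv k _ 0).finrank_eq, h0_C k] at h1
  have hd0 : Curv2.deg k C (CohB1.tensorMod (ClSub.idealMod B) M) 1 = 0 := by
    rw [← dC_of k hL, ← PicM.of_mul hB hM, dC_mul k hdim, ← hd, ← dC_mul k hdim, hb, dC_one]
  obtain ⟨e'⟩ := (deg_nonneg_of_section k hdim.le hL (Module.nontrivial_of_finrank_pos (R := k) (by omega))).2.1 hd0
  have h2 : PicM.of hB * PicM.of hM = 1 := by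
    rw [PicM.of_mul, PicM.of_eq_one_iff]
    exact ⟨e'⟩
  exact PicM.mul_right_cancel' (hb.trans h2.symm)

/-- The class of a point. -/
noncomputable def idP (x : Spec (CommRingCat.of k) ⟶ C) (hx : x ≫ (C ↘ Spec (CommRingCat.of k)) = 𝟙 _) : PicM C :=
  haveI := smoothRD_C k hdim
  idl (C ↘ Spec (CommRingCat.of k)) x hx

variable (κ : C ⟶ CohB1.ProjSpace 1 k) (hκ : κ ≫ CohB1.ProjSpace.toSpec 1 k = (C ↘ Spec (CommRingCat.of k)))
  [IsFinite κ] [Flat κ] (hκ2 : ∀ y : ↥(CohB1.ProjSpace 1 k), κ.finrank y = 2)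

include hκ hκ2 in
/-- A double cover with two points over `y` has `L = O(x + x')`. -/
theorem cL_mul_idP (x x' : Spec (CommRingCat.of k) ⟶ C) (hx : x ≫ (C ↘ Spec (CommRingCat.of k)) = 𝟙 _)
    (hx' : x' ≫ (C ↘ Spec (CommRingCat.of k)) = 𝟙 _) (hκx : x' ≫ κ = x ≫ κ)
    (hne : ∀ pt, x pt ≠ x' pt) : cL k κ * (idP k hdim x hx * idP k hdim x' hx') = 1 := by
  haveI := smoothRD_C k hdim
  haveI := geomConn_C k (C := C)
  haveI := isIntegral_C k (C := C)
  haveI := isNoetherian_of_proper (X := C) k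
  haveI := isClosedImmersion_section (C ↘ Spec (CommRingCat.of k)) x hx
  haveI := isClosedImmersion_section (C ↘ Spec (CommRingCat.of k)) x' hx'
  let y := x ≫ κ
  obtain ⟨hyE, hyc⟩ := idl_P1 k y (by rw [Category.assoc, hκ, hx])
  let A := y.ker.comap κ
  have hAE : BlowUp.IsEffCartierIdeal A := SDiv28.isEffCartier_comap_of_flat hyE κ
  have hA := FlatMor12.IdealModGen.isInvertible_idealMod A hAE
  have hy := FlatMor12.IdealModGen.isInvertible_idealMod y.ker hyE
  have hxE := isEffCartier_sec (C ↘ Spec (CommRingCat.of k)) x hx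
  have hxE' := isEffCartier_sec (C ↘ Spec (CommRingCat.of k)) x' hx'
  have hI := FlatMor12.IdealModGen.isInvertible_idealMod _ hxE
  have hI' := FlatMor12.IdealModGen.isInvertible_idealMod _ hxE'
  obtain ⟨eA⟩ := Inters29.nonempty_pullback_idealMod_iso κ y.ker hyE hAE
  have hpull : PicM.of hA * cL k κ = 1 := by
    have h := congrArg (PicM.pull κ) (hyc hy)
    rw [map_mul, map_one, PicM.pull_of _ hy] at h
    rw [show PicM.of hA = PicM.of (PicLoc.isInvertible_pullback κ hy) from (PicM.of_eq_iff _ _).2 ⟨eA.symm⟩]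
    exact h
  obtain ⟨eP⟩ := KRR28.nonempty_idealMod_mul_eff x.ker hxE'
  have hP : PicF.IsInvertible (ClSub.idealMod (x.ker * x'.ker)) :=
    AmpleLib.glocus_isInvertible_of_iso eP (AmpleLib.isInvertible_tensorMod hI hI')
  have hprod : PicM.of hP = idP k hdim x hx * idP k hdim x' hx' := by
    show _ = PicM.of hI * PicM.of hI'
    rw [PicM.of_mul, PicM.of_eq_iff]
    exact ⟨eP.symm⟩
  have hle1 : A ≤ x.ker := Scheme.IdealSheafData.le_map_iff_comap_le.1 (Scheme.Hom.ker_comp x κ).le
  have hle2 : A ≤ x'.ker := by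
    refine Scheme.IdealSheafData.le_map_iff_comap_le.1 ?_
    rw [← Scheme.Hom.ker_comp, hκx]
  have hle : A ≤ x.ker * x'.ker := by
    intro U
    have htop : x.ker ⊔ x'.ker = ⊤ := by
      rw [← Scheme.IdealSheafData.support_eq_bot_iff, Scheme.IdealSheafData.support_sup]
      refine Closeds.ext ?_
      simp only [Closeds.coe_inf, Closeds.coe_bot, Scheme.Hom.support_ker]
      rw [Set.eq_empty_iff_forall_notMem]
      rintro z ⟨hz, hz'⟩
      rw [x.isClosedEmbedding.isClosed_range.closure_eq] at hz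
      rw [x'.isClosedEmbedding.isClosed_range.closure_eq] at hz'
      obtain ⟨pt, rfl⟩ := hz
      obtain ⟨pt', h'⟩ := hz'
      exact hne pt (h'.symm.trans (congrArg x' (Subsingleton.elim (α := PrimeSpectrum k) pt' pt)))
    rw [Scheme.IdealSheafData.ideal_mul, Pi.mul_apply, Ideal.mul_eq_inf_of_coprime (by
      have := congrArg (fun I => Scheme.IdealSheafData.ideal I U) htop
      simpa using this)]
    exact le_inf (hle1 U) (hle2 U)
  have hdA : dC k (PicM.of hA) = -2 := by
    rw [dC_inv k hdim hpull, dC_cL k hdim κ hκ hκ2]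
  have hdP : dC k (PicM.of hP) = -2 := by
    have h1 : ∀ (z : Spec (CommRingCat.of k) ⟶ C) (hz : z ≫ (C ↘ Spec (CommRingCat.of k)) = 𝟙 _)
        (h : PicF.IsInvertible (ClSub.idealMod z.ker)), dC k (PicM.of h) = -1 := fun z hz h => by
      rw [dC_of k h, EllGrp5.deg_idealMod_section k z hz]
    rw [hprod]
    show dC k (PicM.of hI * PicM.of hI') = -2
    rw [dC_mul k hdim, h1 x hx, h1 x' hx']
    norm_num
  rw [← hprod, ← of_idealMod_eq_of_le k hdim hA hP hle (hdA.trans hdP.symm), mul_comm, hpull]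

end Groth.Agent.HypSq5
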