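import Groth.Agent.CAlgH3.QuotAmple
import Groth.Agent.PicLib.PicMonoid

/-!
# Pullback to the total space of a quotient with a fixed locus is injective on classes
-/

set_option autoImplicit false
set_option linter.style.haveILetI false
set_option backward.isDefEq.respectTransparency.types false
set_option maxHeartbeats 1000000

universe u

open CategoryTheory CategoryTheory.Limits AlgebraicGeometry TopologicalSpace Opposite
open Groth.Agent.Coherent Groth.Agent.PicLib Groth.Agent.AmpleLib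
open Groth.Agent.CAlgH3.QuotAmple

namespace Groth.Agent.HypSq5

variable {X Y Z : Scheme.{u}} {G : Type u} [Group G] {ρ : G →* Aut X} {q : X ⟶ Y}

theorem appLE_act_fixed (hq : SGA1.IsQuot ρ q) (d : Z ⟶ X) (hd : ∀ g, d ≫ (ρ g).hom = d) (g : G) (V : Y.Opens)
    (a : Γ(X, q ⁻¹ᵁ V)) (W : Z.Opens) (h : W ≤ d ⁻¹ᵁ (q ⁻¹ᵁ V)) :
    d.appLE _ W h (act hq g V a) = d.appLE _ W h a := by
  show ((ρ g).hom.appLE _ _ _ ≫ d.appLE _ W h).hom a = _
  rw [Scheme.Hom.appLE_comp_appLE, appLE_congr' (hd g) _ h]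

/-- A class killed by pullback to a quotient cover whose group has a fixed locus seeing all functions is trivial. -/
theorem eq_one_of_pull_quot [Finite G] (hq : SGA1.IsQuot ρ q) (d : Z ⟶ X) (hd : ∀ g, d ≫ (ρ g).hom = d)
    (hinj : Function.Injective (d.appTop).hom) {a : PicM Y} (ha : PicM.pull q a = 1) : a = 1 := by
  obtain ⟨M, hM, rfl⟩ := PicM.exists_eq_of a
  rw [PicM.pull_of, PicM.of_eq_one_iff] at ha
  obtain ⟨e⟩ := ha
  rw [PicM.of_eq_one_iff]
  obtain ⟨U, m, hmem, hm⟩ := PicLib.exists_cover hM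
  have hU : iSup U = ⊤ := top_le_iff.1 fun y _ => Opens.mem_iSup.2 ⟨y, hmem y⟩
  let u : ∀ i, Γ(X, q ⁻¹ᵁ U i) := fun i => e.hom.app (q ⁻¹ᵁ U i) (pullSec q (m i))
  have hu : ∀ i, IsUnit (u i) := fun i => by
    obtain ⟨r, hr⟩ := (isGen_pullSec q (hm i) hM _ le_rfl).2 (e.inv.app (q ⁻¹ᵁ U i) (1 : Γ(X, q ⁻¹ᵁ U i)))
    have h := congrArg (e.hom.app (q ⁻¹ᵁ U i)) hr
    simp only [resM_self, Scheme.Modules.Hom.app_smul] at h
    rw [← ConcreteCategory.comp_apply (e.inv.app _) (e.hom.app _), ← Scheme.Modules.Hom.comp_app, e.inv_hom_id] at h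
    exact IsUnit.of_mul_eq_one _ ((mul_comm _ _).trans h)
  let v : ∀ i, Γ(X, q ⁻¹ᵁ U i) := fun i => ((hu i).unit⁻¹ : Γ(X, q ⁻¹ᵁ U i)ˣ)
  have huv : ∀ i, u i * v i = 1 := fun i => (hu i).mul_val_inv
  have htr : ∀ i j (W : Y.Opens) (hi : W ≤ U i) (hj : W ≤ U j) (c : Γ(Y, W)),
      resM M hi (m i) = c • resM M hj (m j) →
      PicLib.res (q.preimage_mono hi) (u i) = q.app W c * PicLib.res (q.preimage_mono hj) (u j) := by
    intro i j W hi hj c hc
    have h := congrArg (fun z => e.hom.app (q ⁻¹ᵁ W) (pullSec q z)) hc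
    simp only [pullSec_smul, ← resM_pullSec, Scheme.Modules.Hom.app_smul, app_resM] at h
    exact h
  have hw : ∀ g i, act hq g (U i) (u i) = u i := by
    intro g
    let w : ∀ i, Γ(X, q ⁻¹ᵁ U i) := fun i => act hq g (U i) (u i) * v i
    have hcov : (⊤ : X.Opens) ≤ ⨆ i, q ⁻¹ᵁ U i := fun x _ => Opens.mem_iSup.2 ⟨q x, hmem (q x)⟩
    obtain ⟨w₀, hw₀, -⟩ := TopCat.Sheaf.existsUnique_gluing' X.sheaf (fun i => q ⁻¹ᵁ U i) ⊤
      (fun i => homOfLE le_top) hcov w (fun i j => by
      let W := U i ⊓ U j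
      have hi : W ≤ U i := inf_le_left
      have hj : W ≤ U j := inf_le_right
      obtain ⟨c, hc⟩ := ((hm j) W hj).2 (resM M hi (m i))
      have h1 := htr i j W hi hj c hc.symm
      have hinv : act hq g W (q.app W c) = q.app W c := (hq.range_iff W _).1 ⟨c, rfl⟩ g
      have h2 : PicLib.res (q.preimage_mono hi) (w i) = PicLib.res (q.preimage_mono hj) (w j) := by
        have ei := congrArg (PicLib.res (q.preimage_mono hi)) (huv i)
        have ej := congrArg (PicLib.res (q.preimage_mono hj)) (huv j)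
        rw [map_mul, map_one] at ei ej
        show PicLib.res (q.preimage_mono hi) (act hq g (U i) (u i) * v i) =
          PicLib.res (q.preimage_mono hj) (act hq g (U j) (u j) * v j)
        rw [map_mul, map_mul, ← act_res hq g hi, ← act_res hq g hj, h1, map_mul, hinv]
        rw [h1] at ei
        have alg : ∀ (C A a b y : Γ(X, q ⁻¹ᵁ W)), y * b = 1 → C * y * a = 1 → C * A * a = A * b :=
          fun C A a b y e1 e2 => by linear_combination (-(C * A * a)) * e1 + (A * b) * e2
        exact alg _ _ _ _ _ ej ei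
      exact h2)
    have hone : w₀ = 1 := by
      refine hinj (TopCat.Sheaf.eq_of_locally_eq' Z.sheaf (fun i => d ⁻¹ᵁ (q ⁻¹ᵁ U i)) ⊤
        (fun i => homOfLE le_top) (fun x _ => Opens.mem_iSup.2 ⟨q (d x), hmem (q (d x))⟩) _ _ fun i => ?_)
      have key : ∀ z : Γ(X, ⊤), PicLib.res le_top (d.appTop z) =
          d.appLE (q ⁻¹ᵁ U i) (d ⁻¹ᵁ (q ⁻¹ᵁ U i)) le_rfl (PicLib.res le_top z) := by
        intro z
        show (d.appTop ≫ Z.presheaf.map _).hom z = (X.presheaf.map _ ≫ d.appLE _ _ _).hom z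
        rw [Scheme.Hom.map_appLE]
        rfl
      show PicLib.res le_top (d.appTop w₀) = PicLib.res le_top (d.appTop 1)
      rw [key, key, show PicLib.res le_top w₀ = w i from hw₀ i, map_one (PicLib.res _), map_one]
      show d.appLE _ _ _ (_ * _) = 1
      rw [map_mul, appLE_act_fixed hq d hd, ← map_mul, huv, map_one]
    intro i
    have h := hw₀ i
    have h' : act hq g (U i) (u i) * v i = 1 := by
      rw [hone] at h
      exact h.symm.trans (map_one (PicLib.res (le_top : q ⁻¹ᵁ U i ≤ ⊤)))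
    linear_combination (u i) * h' - act hq g (U i) (u i) * huv i
  have hv : ∀ g i, act hq g (U i) (v i) = v i := fun g i => by
    have h := congrArg (act hq g (U i)) (huv i)
    rw [map_mul, map_one, hw] at h
    linear_combination (v i) * h - act hq g (U i) (v i) * huv i
  choose du hdu using fun i => (hq.range_iff (U i) (u i)).2 fun g => hw g i
  choose dv hdv using fun i => (hq.range_iff (U i) (v i)).2 fun g => hv g i
  have hunit : ∀ i, IsUnit (du i) := fun i => IsUnit.of_mul_eq_one (dv i) (hq.injective _ (by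
    rw [map_mul, hdu, hdv, map_one]; exact huv i))
  have hgen : ∀ i, IsGen (Coh.structureModule Y) (U i) (du i) := fun i V hV => by
    obtain ⟨z, hz⟩ := (hunit i).map (PicLib.res hV)
    show Function.Bijective fun r : Γ(Y, V) => r * PicLib.res hV (du i)
    rw [← hz]
    exact Units.mulRight_bijective z
  obtain ⟨φ, -⟩ := exists_iso_of_gens (M := Coh.structureModule Y) U hU m hm du hgen fun i j W hi hj c hc => by
    show PicLib.res hi (du i) = c * PicLib.res hj (du j)
    refine hq.injective W ?_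
    have nat : ∀ {V : Y.Opens} (h : W ≤ V) (z : Γ(Y, V)), q.app W (PicLib.res h z) =
        PicLib.res (q.preimage_mono h) (q.app V z) := fun h z => by
      show (Y.presheaf.map _ ≫ q.app W).hom z = _
      rw [Scheme.Hom.naturality]
      rfl
    rw [map_mul]
    rw [nat hi, nat hj, hdu, hdu]
    exact htr i j W hi hj c hc
  exact ⟨φ⟩

/-- Pullback to a quotient cover with such a fixed locus is injective on classes. -/
theorem pull_quot_injective [Finite G] (hq : SGA1.IsQuot ρ q) (d : Z ⟶ X) (hd : ∀ g, d ≫ (ρ g).hom = d)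
    (hinj : Function.Injective (d.appTop).hom) {a b c : PicM Y} (hbc : b * c = 1)
    (h : PicM.pull q a = PicM.pull q b) : a = b := by
  refine PicM.mul_right_cancel' ((eq_one_of_pull_quot hq d hd hinj ?_).trans hbc.symm)
  rw [map_mul, h, ← map_mul, hbc, map_one]

end Groth.Agent.HypSq5
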