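import Groth.Agent.HypSq5.Setup
import Groth.Agent.SerreDual.PushEquiv

/-!
# The restriction sequence of a graph
-/

set_option autoImplicit false
set_option linter.style.haveILetI false
set_option linter.unusedSectionVars false
set_option backward.isDefEq.respectTransparency.types false
set_option maxHeartbeats 1000000

universe u

open CategoryTheory CategoryTheory.Limits AlgebraicGeometry Opposite TopologicalSpace
open Groth.Agent.Coherent Groth.Agent.PicLib Groth.Agent.AmpleLib Groth.Agent.EulerLib Groth.Agent.CurveRR24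
open Groth.Agent.AbCubeLib Groth.Agent.VarietyLib Groth.Agent.EllGrp5

namespace Groth.Agent.HypSq5

section Linear

variable {K A B D : Type*} [Field K] [AddCommGroup A] [AddCommGroup B] [AddCommGroup D] [Module K A] [Module K B]
  [Module K D] [Module.Finite K A] [Module.Finite K B] [Module.Finite K D] {f : A →ₗ[K] B} {g : B →ₗ[K] D}

theorem finrank_le_of_exact (h : Function.Exact f g) :
    Module.finrank K B ≤ Module.finrank K A + Module.finrank K D := by
  rw [← LinearMap.finrank_range_add_finrank_ker g, LinearMap.exact_iff.1 h, add_comm]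
  exact add_le_add (LinearMap.finrank_range_le f) (Submodule.finrank_le _)

theorem finrank_eq_of_exact (h : Function.Exact f g) (hf : Function.Injective f) (hg : Function.Surjective g) :
    Module.finrank K B = Module.finrank K A + Module.finrank K D := by
  rw [← LinearMap.finrank_range_add_finrank_ker g, LinearMap.exact_iff.1 h, LinearMap.finrank_range_of_inj hf,
    LinearMap.range_eq_top.2 hg, finrank_top, add_comm]

theorem injective_of_exact_subsingleton (h : Function.Exact f g) [Subsingleton A] : Function.Injective g :=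
  (injective_iff_map_eq_zero g).2 fun y hy => by
    obtain ⟨z, rfl⟩ := (h y).1 hy
    rw [Subsingleton.elim z 0, map_zero]

theorem surjective_of_exact_subsingleton (h : Function.Exact f g) [Subsingleton D] : Function.Surjective f :=
  fun y => (h y).1 (Subsingleton.elim _ _)

end Linear

variable (k : Type u) [Field k]

section HH

variable {Y : Scheme.{u}} [Y.Over (Spec (CommRingCat.of k))]

/-- The dimensions of the cohomology of a class. -/
noncomputable def hh (q : ℕ) (a : PicM Y) : ℕ :=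
  Module.finrank k (Coh.HH Y (PicM.exists_eq_of a).choose q)

theorem hh_of {L : Y.Modules} (hL : PicF.IsInvertible L) (q : ℕ) :
    hh k q (PicM.of hL) = Module.finrank k (Coh.HH Y L q) := by
  obtain ⟨e⟩ := (PicM.of_eq_iff _ _).1 (PicM.exists_eq_of (PicM.of hL)).choose_spec.choose_spec
  exact finrank_HH_congr k e.symm q

theorem hh_eq_zero_iff [IsProper (Y ↘ Spec (CommRingCat.of k))] {L : Y.Modules} (hL : PicF.IsInvertible L) (q : ℕ) :
    hh k q (PicM.of hL) = 0 ↔ Subsingleton (Coh.HH Y L q) := by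
  haveI := finite_HH_of_isCoh k (isCoh_of_isInvertible k hL) q
  rw [hh_of, Module.finrank_zero_iff]

end HH

variable {C : Scheme.{u}} [C.Over (Spec (CommRingCat.of k))]
  [IsProper (C ↘ Spec (CommRingCat.of k))] [Smooth (C ↘ Spec (CommRingCat.of k))] [ConnectedSpace ↥C]
  [IsAlgClosed k]
  (hdim : topologicalKrullDim ↥C = 1)
  (f : C ⟶ C) (hf : f ≫ (C ↘ Spec (CommRingCat.of k)) = C ↘ Spec (CommRingCat.of k))

/-- The long exact sequence of `0 → O(x) → O(x + Γ) → O_Γ(x + Γ) → 0`, on dimensions. -/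
theorem les {n : PicM (Sq k C)} (hn : n * idlG k hdim f hf = 1) (x : PicM (Sq k C)) :
    hh k 2 (n * x) ≤ hh k 2 x ∧
    hh k 1 (n * x) ≤ hh k 1 x + hh k 1 (PicM.pull (gr k f hf) (n * x)) ∧
    (hh k 1 x = 0 → hh k 0 (n * x) = hh k 0 x + hh k 0 (PicM.pull (gr k f hf) (n * x))) ∧
    (hh k 1 x = 0 → hh k 2 x = 0 → hh k 1 (n * x) = hh k 1 (PicM.pull (gr k f hf) (n * x))) ∧
    (hh k 0 (PicM.pull (gr k f hf) (n * x)) = 0 → hh k 0 (n * x) = hh k 0 x) := by
  haveI := isNoetherian_of_proper (X := Sq k C) k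
  haveI := isNoetherian_of_proper (X := C) k
  have hI := FlatMor12.IdealModGen.isInvertible_idealMod _ (isEffCartier_gr k hdim f hf)
  obtain ⟨P, hP, ha⟩ := PicM.exists_eq_of (n * x)
  let Γf := gr k f hf
  let D := Γf.ker
  let S := twistSeq (ShortComplex.mk (ClSub.idealModι D) (ClSub.toSubscheme D)
    (kernel.condition (ClSub.toSubscheme D))) P
  have hS : S.ShortExact := twistSeq_shortExact hP (shortExact_ideal D)
  have hX1 : PicF.IsInvertible S.X₁ := AmpleLib.isInvertible_tensorMod hI hP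
  have e1 : x = PicM.of hX1 := by
    rw [show PicM.of hX1 = PicM.of hI * PicM.of hP from (PicM.of_mul hI hP).symm, ← idlG_eq k hdim f hf hI, ← ha,
      ← mul_assoc, mul_comm _ n, hn, one_mul]
  let e2 : S.X₂ ≅ P := AmpleLib.unitTensorIso P
  have hΓP := PicLoc.isInvertible_pullback Γf hP
  haveI : Coh.IsQCoh ((Scheme.Modules.pullback Γf).obj P) := AmpleLib.isQCoh_of_isInvertible hΓP
  have hPF : FlatMod.IsFinLocFree P := fun y =>
    let ⟨U, hy, e⟩ := isFinLocFreeOfRank_one hP y; ⟨U, 1, hy, e⟩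
  obtain ⟨eQ⟩ := Surf15.nonempty_push_iso_quotMod Γf
  let e3 : S.X₃ ≅ (Coh.push Γf).obj ((Scheme.Modules.pullback Γf).obj P) :=
    AmpleLib.tensorIso eQ.symm (Iso.refl P) ≪≫ AmpleLib.tensorComm _ _ ≪≫
      (projIso (f := Γf) hPF).app (Coh.structureModule C) ≪≫
      (Coh.push Γf).mapIso (AmpleLib.tensorComm _ _ ≪≫ AmpleLib.unitTensorIso _)
  have hcoh1 : Coh.IsCoh S.X₁ := isCoh_twist hP (isCoh_idealMod' D)
  have hcoh2 : Coh.IsCoh S.X₂ := isCoh_twist hP (isCoh_structureModule _)
  have hcoh3 : Coh.IsCoh S.X₃ := isCoh_twist hP (isCoh_quotMod D)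
  let φ := baseHom k (Sq k C)
  have hfin : ∀ {M : (Sq k C).Modules}, Coh.IsCoh M → ∀ q, Module.Finite k (HA φ M (⊤ : (Sq k C).Opens) q) :=
    fun {M} hM q => haveI := finite_HH_of_isCoh k hM q; Module.Finite.equiv (HHBaseEquiv k M q)
  haveI := hfin hcoh1
  haveI := hfin hcoh2
  haveI := hfin hcoh3
  have r1 : ∀ q, Module.finrank k (HA φ S.X₁ (⊤ : (Sq k C).Opens) q) = hh k q x := fun q => by
    rw [e1, hh_of, (HHBaseEquiv k S.X₁ q).finrank_eq]
  have r2 : ∀ q, Module.finrank k (HA φ S.X₂ (⊤ : (Sq k C).Opens) q) = hh k q (n * x) := fun q => by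
    rw [ha, hh_of, ← finrank_HH_congr k e2 q, (HHBaseEquiv k S.X₂ q).finrank_eq]
  have r3 : ∀ q, Module.finrank k (HA φ S.X₃ (⊤ : (Sq k C).Opens) q) =
      hh k q (PicM.pull Γf (n * x)) := fun q => by
    rw [ha, PicM.pull_of, hh_of, ← (HHBaseEquiv k S.X₃ q).finrank_eq, finrank_HH_congr k e3 q]
    exact (SerreDual.hpush Γf k (by
      show _ ≫ p₁ k C ≫ _ = _
      rw [← Category.assoc, gr_fst]; exact Category.id_comp _) _ q).finrank_eq.symm
  have sub : ∀ {M : (Sq k C).Modules} (hM : Coh.IsCoh M) (q : ℕ), Module.finrank k (HA φ M ⊤ q) = 0 →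
      Subsingleton (HA φ M (⊤ : (Sq k C).Opens) q) := fun {M} hM q h =>
    haveI := hfin hM q
    Module.finrank_zero_iff.1 h
  have hC2 : hh k 2 (PicM.pull Γf (n * x)) = 0 := by
    rw [ha, PicM.pull_of, hh_eq_zero_iff]
    exact subsingleton_HH_ge_two k hdim.le _ inferInstance one_lt_two
  refine ⟨?_, ?_, fun h1 => ?_, fun h1 h2 => ?_, fun h0 => ?_⟩
  · have := finrank_le_of_exact (exact_postA φ hS ⊤ 2)
    rw [r1, r2, r3, hC2] at this
    exact this
  · have := finrank_le_of_exact (exact_postA φ hS ⊤ 1)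
    rw [r1, r2, r3] at this
    exact this
  · haveI := sub hcoh1 1 ((r1 1).trans h1)
    have := finrank_eq_of_exact (exact_postA φ hS ⊤ 0) (postA_zero_injective φ hS ⊤)
      (surjective_of_exact_subsingleton (exact_postA_deltaA φ hS ⊤ 0))
    rw [r1, r2, r3] at this
    exact this
  · haveI := sub hcoh1 1 ((r1 1).trans h1)
    haveI := sub hcoh1 2 ((r1 2).trans h2)
    have := LinearEquiv.finrank_eq (LinearEquiv.ofBijective (postA φ S.g ⊤ 1)
      ⟨injective_of_exact_subsingleton (exact_postA φ hS ⊤ 1),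
        surjective_of_exact_subsingleton (exact_postA_deltaA φ hS ⊤ 1)⟩)
    rw [r2, r3] at this
    exact this
  · haveI := sub hcoh3 0 ((r3 0).trans h0)
    have := LinearEquiv.finrank_eq (LinearEquiv.ofBijective (postA φ S.f ⊤ 0)
      ⟨postA_zero_injective φ hS ⊤, surjective_of_exact_subsingleton (exact_postA φ hS ⊤ 0)⟩)
    rw [r1, r2] at this
    exact this.symm

end Groth.Agent.HypSq5
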