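import Groth.Agent.EllGrp5.Field
import Groth.Agent.EllGrp5.Curve
import Groth.Agent.EllGrp5.Sec
import Groth.Agent.Surf15.IntPush
import Groth.Agent.Surf15.Pairing
import Groth.Agent.VarietyLib.NakaiTransfer
import Groth.Agent.VarietyLib.DivisorCut
import Groth.Agent.AbCubeLib.HomQuadratic
import Groth.Agent.AbCohLib.EulerBox
import Groth.Agent.CycLib28.MultPos
import Groth.Agent.Clifford24.G12
import Groth.Agent.CurveRR24.AlgClosed
import Groth.Agent.FBaseLib.Geom
import Groth.Agent.AbSchLib.RigidityOver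
import Groth.Agent.PicLib.PicGroup

/-!
# The square of a curve: classes, Euler characteristics and graphs
-/

set_option autoImplicit false
set_option linter.style.haveILetI false
set_option linter.unusedSectionVars false
set_option backward.isDefEq.respectTransparency.types false
set_option maxHeartbeats 1000000

universe u

open CategoryTheory CategoryTheory.Limits AlgebraicGeometry Opposite TopologicalSpace
open Groth.Agent.Coherent Groth.Agent.PicLib Groth.Agent.AmpleLib Groth.Agent.EulerLib Groth.Agent.CurveRR24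
open Groth.Agent.AbCubeLib Groth.Agent.VarietyLib Groth.Agent.EllGrp5

namespace Groth.Agent.HypSq5

/-- Pullback of classes and `invOf`. -/
theorem invOf_pull {X Y : Scheme.{u}} (g : Y ⟶ X) (a : PicM X) :
    invOf (PicM.pull g a) = pullHom g (invOf a) := by
  obtain ⟨L, hL, rfl⟩ := PicM.exists_eq_of a
  rw [PicM.pull_of, invOf_of, invOf_of, pullHom_mk]

/-- An inverse module gives an inverse class. -/
theorem of_mul_eq_one {X : Scheme.{u}} {L M : X.Modules} (hL : PicF.IsInvertible L) (hM : PicF.IsInvertible M)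
    (h : ClSub.IsInverseOf L M) : PicM.of hL * PicM.of hM = 1 := by
  rw [PicM.of_mul, PicM.of_eq_one_iff]
  exact h

variable (k : Type u) [Field k] (C : Scheme.{u}) [C.Over (Spec (CommRingCat.of k))]

/-- The square of a curve. -/
noncomputable abbrev Sq : Scheme.{u} :=
  pullback (C ↘ Spec (CommRingCat.of k)) (C ↘ Spec (CommRingCat.of k))

noncomputable scoped instance sqOver : (Sq k C).Over (Spec (CommRingCat.of k)) :=
  ⟨pullback.fst (C ↘ Spec (CommRingCat.of k)) (C ↘ Spec (CommRingCat.of k)) ≫ (C ↘ Spec (CommRingCat.of k))⟩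

noncomputable abbrev p₁ : Sq k C ⟶ C := pullback.fst (C ↘ Spec (CommRingCat.of k)) (C ↘ Spec (CommRingCat.of k))
noncomputable abbrev p₂ : Sq k C ⟶ C := pullback.snd (C ↘ Spec (CommRingCat.of k)) (C ↘ Spec (CommRingCat.of k))

variable {C}

/-- The graph of an endomorphism of the curve. -/
noncomputable abbrev gr (f : C ⟶ C) (hf : f ≫ (C ↘ Spec (CommRingCat.of k)) = C ↘ Spec (CommRingCat.of k)) :
    C ⟶ Sq k C :=
  pullback.lift (𝟙 C) f ((Category.id_comp (C ↘ Spec (CommRingCat.of k))).trans hf.symm)

variable [IsProper (C ↘ Spec (CommRingCat.of k))]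

instance isProper_p₁ : IsProper (p₁ k C) := inferInstanceAs (IsProper (pullback.fst _ _))

instance isProper_sq : IsProper ((Sq k C) ↘ Spec (CommRingCat.of k)) :=
  inferInstanceAs (IsProper (p₁ k C ≫ _))

/-- The degree of a class on the curve. -/
noncomputable def dC (a : PicM C) : ℤ := Surf15.deg k (Coh.structureModule C) (invOf a)

/-- The Euler characteristic of a class on the curve. -/
noncomputable def chiC (a : PicM C) : ℤ := chiCl k (Coh.structureModule C) (invOf a)

/-- The Euler characteristic of a class on the square. -/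
noncomputable def chi (a : PicM (Sq k C)) : ℤ := chiCl k (Coh.structureModule (Sq k C)) (invOf a)

theorem euler_eq_chiC {L : C.Modules} (hL : PicF.IsInvertible L) :
    Curv2.euler k C L = chiC k (PicM.of hL) := by
  rw [chiC, invOf_of, chiCl_mk]
  exact euler_congr k C (unitTensorIso L).symm

theorem euler_eq_chi {L : (Sq k C).Modules} (hL : PicF.IsInvertible L) :
    Curv2.euler k (Sq k C) L = chi k (PicM.of hL) := by
  rw [chi, invOf_of, chiCl_mk]
  exact euler_congr k (Sq k C) (unitTensorIso L).symm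

theorem dC_of {L : C.Modules} (hL : PicF.IsInvertible L) : dC k (PicM.of hL) = Curv2.deg k C L 1 := by
  rw [dC, invOf_of, Surf15.deg_mk, euler_congr k C (unitTensorIso L), Curv2.deg, Nat.cast_one, one_mul]

theorem chiC_eq_dC_add (a : PicM C) : chiC k a = dC k a + Curv2.euler k C (Coh.structureModule C) := by
  rw [dC, Surf15.deg, chiCl_one, chiC]
  ring

section Curve

variable [Smooth (C ↘ Spec (CommRingCat.of k))] [ConnectedSpace ↥C] [IsAlgClosed k]
  (hdim : topologicalKrullDim ↥C = 1)

include k in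
theorem isIntegral_C : AlgebraicGeometry.IsIntegral C :=
  AbVarLib.isIntegral_of_smooth_connected (C ↘ Spec (CommRingCat.of k))

theorem geomConn_C : GeometricallyConnected (C ↘ Spec (CommRingCat.of k)) :=
  haveI := isIntegral_C k (C := C)
  haveI := FBaseLib.geometricallyIrreducible_of_isAlgClosed (C ↘ Spec (CommRingCat.of k))
  AbSchLib.geometricallyConnected_of_irreducible _

theorem geomInt_C : GeometricallyIntegral (C ↘ Spec (CommRingCat.of k)) :=
  haveI := geomConn_C k (C := C)
  AbVarLib.geometricallyIntegral_of_smooth _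

theorem h0_C : Module.finrank k (Coh.HH C (Coh.structureModule C) 0) = 1 :=
  haveI := isIntegral_C k (C := C)
  CurveRR24.h0_structure k

include hdim

theorem smoothRD_C : SmoothOfRelativeDimension 1 (C ↘ Spec (CommRingCat.of k)) :=
  haveI := isIntegral_C k (C := C)
  smoothRD_of_dim _ hdim

theorem smoothRD_p₁ : SmoothOfRelativeDimension 1 (p₁ k C) :=
  have h := smoothRD_C k hdim
  haveI := smoothOfRelativeDimension_isStableUnderBaseChange (n := 1)
  MorphismProperty.pullback_fst (P := @SmoothOfRelativeDimension 1) _ _ h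

theorem euler_O : Curv2.euler k C (Coh.structureModule C) = 1 - (Curv2.genus k C : ℤ) := by
  rw [euler_structure k hdim.le, h0_C k, Nat.cast_one]

theorem chiC_eq (a : PicM C) : chiC k a = dC k a + 1 - (Curv2.genus k C : ℤ) := by
  rw [chiC_eq_dC_add, euler_O k hdim]
  ring

theorem dC_mul (a b : PicM C) : dC k (a * b) = dC k a + dC k b := by
  rw [dC, map_mul]
  exact Surf15.deg_mul k (Surf15.isCoh_O k)
    ((Topology.IsInducing.subtypeVal.topologicalKrullDim_le).trans hdim.le) _ _

omit [Smooth (C ↘ Spec (CommRingCat.of k))] [ConnectedSpace ↥C] [IsAlgClosed k] hdim in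
theorem dC_one : dC k (1 : PicM C) = 0 := by
  rw [dC, map_one, Surf15.deg_one]

theorem dC_pow (a : PicM C) : ∀ n : ℕ, dC k (a ^ n) = n * dC k a
  | 0 => by rw [pow_zero, dC_one, Nat.cast_zero, zero_mul]
  | n + 1 => by
    rw [pow_succ, dC_mul k hdim, dC_pow a n]
    push_cast
    ring

theorem dC_inv {a b : PicM C} (h : a * b = 1) : dC k a = - dC k b := by
  have := dC_mul k hdim a b
  rw [h, dC_one] at this
  omega

theorem dim_sq : topologicalKrullDim ↥(Sq k C) ≤ ((2 : ℕ) : WithBot ℕ∞) := by
  rw [CycLib28.topologicalKrullDim_product (C ↘ Spec (CommRingCat.of k)) (C ↘ Spec (CommRingCat.of k))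
    (r := 1) (s := 1) (by rw [hdim]; rfl) (by rw [hdim]; rfl)]

/-- The Euler characteristic of an external product. -/
theorem chi_box (a b : PicM C) :
    chi k (PicM.pull (p₁ k C) a * PicM.pull (p₂ k C) b) = chiC k a * chiC k b := by
  obtain ⟨M, hM, rfl⟩ := PicM.exists_eq_of a
  obtain ⟨L, hL, rfl⟩ := PicM.exists_eq_of b
  rw [PicM.pull_of, PicM.pull_of, PicM.of_mul, ← euler_eq_chi k, ← euler_eq_chiC k, ← euler_eq_chiC k]
  have hd := dim_sq k hdim
  haveI : IsProper (Over.mk (C ↘ Spec (CommRingCat.of k))).hom := ‹IsProper _›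
  exact AbCohLib.euler_boxM k (Over.mk (C ↘ Spec (CommRingCat.of k))) (Over.mk (C ↘ Spec (CommRingCat.of k)))
    M L hM hL 2 hd (hdim.le.trans (by exact_mod_cast one_le_two))

end Curve

section Graph

variable [Smooth (C ↘ Spec (CommRingCat.of k))] [ConnectedSpace ↥C] [IsAlgClosed k]
  (hdim : topologicalKrullDim ↥C = 1)
  (f : C ⟶ C) (hf : f ≫ (C ↘ Spec (CommRingCat.of k)) = C ↘ Spec (CommRingCat.of k))

theorem gr_fst : gr k f hf ≫ p₁ k C = 𝟙 C := pullback.lift_fst _ _ _

theorem gr_snd : gr k f hf ≫ p₂ k C = f := pullback.lift_snd _ _ _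

theorem pull_gr_fst (a : PicM C) : PicM.pull (gr k f hf) (PicM.pull (p₁ k C) a) = a := by
  rw [PicM.pull_pull, gr_fst, PicM.pull_id]

theorem pull_gr_snd (a : PicM C) : PicM.pull (gr k f hf) (PicM.pull (p₂ k C) a) = PicM.pull f a := by
  rw [PicM.pull_pull, gr_snd]

instance isClosedImmersion_gr : IsClosedImmersion (gr k f hf) :=
  isClosedImmersion_section (p₁ k C) _ (gr_fst k f hf)

include hdim in
theorem isEffCartier_gr : BlowUp.IsEffCartierIdeal (gr k f hf).ker :=
  haveI := smoothRD_p₁ k hdim
  isEffCartier_sec (p₁ k C) _ (gr_fst k f hf)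

/-- The class of the ideal of a graph. -/
noncomputable def idlG : PicM (Sq k C) :=
  haveI := smoothRD_p₁ k hdim
  idl (p₁ k C) (gr k f hf) (gr_fst k f hf)

theorem idlG_eq (h : PicF.IsInvertible (ClSub.idealMod (gr k f hf).ker)) : idlG k hdim f hf = PicM.of h := rfl

theorem of_mul_idlG {N : (Sq k C).Modules} (hN : PicF.IsInvertible N)
    (hNinv : ClSub.IsInverseOf N (ClSub.idealMod (gr k f hf).ker)) :
    PicM.of hN * idlG k hdim f hf = 1 :=
  of_mul_eq_one hN (FlatMor12.IdealModGen.isInvertible_idealMod _ (isEffCartier_gr k hdim f hf)) hNinv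

/-- Twisting by a graph changes the Euler characteristic by that of the graph. -/
theorem chi_cut {n : PicM (Sq k C)} (hn : n * idlG k hdim f hf = 1) (x : PicM (Sq k C)) :
    chi k (n * x) - chi k x = chiC k (PicM.pull (gr k f hf) (n * x)) := by
  obtain ⟨L, hL, rfl⟩ := PicM.exists_eq_of n
  have hI := FlatMor12.IdealModGen.isInvertible_idealMod _ (isEffCartier_gr k hdim f hf)
  have hLD : ClSub.IsInverseOf L (ClSub.idealMod (gr k f hf).ker) := by
    rw [idlG_eq k hdim f hf hI, PicM.of_mul, PicM.of_eq_one_iff] at hn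
    exact hn
  have h := chiCl_effCartier_diff k hL hLD (invOf x)
  obtain ⟨e⟩ := Surf15.nonempty_push_iso_quotMod (gr k f hf)
  rw [← invOf_of hL, ← map_mul, ← chiCl_congr k e,
    chiCl_push k (gr k f hf) (by show _ ≫ p₁ k C ≫ _ = _; rw [← Category.assoc, gr_fst]; exact Category.id_comp _)
      (Surf15.isCoh_O k), ← invOf_pull] at h
  exact h

end Graph

end Groth.Agent.HypSq5
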