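import Groth.Agent.HypSq5.SymSquare
import Groth.Agent.HypSq5.QuotInj
import Groth.Agent.PicLib.PicGroup

/-!
# Classes on the symmetric square
-/

set_option autoImplicit false
set_option linter.style.haveILetI false
set_option linter.unusedSectionVars false
set_option backward.isDefEq.respectTransparency.types false
set_option maxHeartbeats 1000000

universe u

open CategoryTheory CategoryTheory.Limits AlgebraicGeometry Opposite TopologicalSpace
open Groth.Agent.Coherent Groth.Agent.PicLib Groth.Agent.AmpleLib Groth.Agent.EulerLib Groth.Agent.CurveRR24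
open Groth.Agent.AbCubeLib Groth.Agent.VarietyLib Groth.Agent.EllGrp5

namespace Groth.Agent.HypSq5

variable (k : Type u) [Field k] {C : Scheme.{u}} [C.Over (Spec (CommRingCat.of k))]
  [IsProper (C ↘ Spec (CommRingCat.of k))] [Smooth (C ↘ Spec (CommRingCat.of k))] [ConnectedSpace ↥C]
  [IsAlgClosed k]
  (hdim : topologicalKrullDim ↥C = 1)
  (κ : C ⟶ CohB1.ProjSpace 1 k) (hκ : κ ≫ CohB1.ProjSpace.toSpec 1 k = (C ↘ Spec (CommRingCat.of k)))
  [IsFinite κ] [Flat κ] (hκ2 : ∀ y : ↥(CohB1.ProjSpace 1 k), κ.finrank y = 2)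
  (σ : C ⟶ C) (hσ : σ ≫ κ = κ) (hσ1 : σ ≠ 𝟙 C)
  (hσp : σ ≫ (C ↘ Spec (CommRingCat.of k)) = (C ↘ Spec (CommRingCat.of k)))
  (hg : 2 ≤ Curv2.genus k C)

include hdim hκ hκ2 hσ hσ1 hσp hg in
/-- At a fixed point of the involution `L = O(2x)`. -/
theorem of_sq_eq_cL (x : Spec (CommRingCat.of k) ⟶ C) (hx : x ≫ (C ↘ Spec (CommRingCat.of k)) = 𝟙 _)
    (hxW : x ≫ σ = x) {A : C.Modules} (hA : PicF.IsInvertible A)
    (hAinv : ClSub.IsInverseOf A (ClSub.idealMod x.ker)) : PicM.of hA ^ 2 = cL k κ := by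
  haveI := smoothRD_p₁ k hdim
  haveI := smoothRD_C k hdim
  have v1 : vert k x hx ≫ p₁ k C = (C ↘ Spec (CommRingCat.of k)) ≫ x := pullback.lift_fst _ _ _
  have v2 : vert k x hx ≫ p₂ k C = 𝟙 C := pullback.lift_snd _ _ _
  have e1 : ∀ (f : C ⟶ C) (hf : f ≫ (C ↘ Spec (CommRingCat.of k)) = C ↘ Spec (CommRingCat.of k)), x ≫ f = x →
      PicM.pull (vert k x hx) (idlG k hdim f hf) = idP k hdim x hx := by
    intro f hf hxf
    refine pull_idl (p₁ k C) (isPullback_vert k x hx) _ (gr_fst k _ _) x hx ?_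
    apply pullback.hom_ext
    · rw [Category.assoc, show vert k x hx ≫ pullback.fst _ _ = _ from v1, Category.assoc, gr_fst, ← Category.assoc, hx,
        Category.id_comp, Category.comp_id]
    · rw [Category.assoc, show vert k x hx ≫ pullback.snd _ _ = _ from v2, Category.comp_id, Category.assoc, gr_snd, hxf]
  have h := congrArg (PicM.pull (vert k x hx)) (cR_eq_one k hdim κ hκ hκ2 σ hσ hσ1 hσp hg)
  rw [map_one, cR, map_mul, map_mul, e1 _ _ (Category.comp_id x), e1 _ _ hxW, cF, map_mul, PicM.pull_pull,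
    PicM.pull_pull, v1, v2, pull_const, one_mul, PicM.pull_id, pow_one] at h
  have hP : PicM.of hA * idP k hdim x hx = 1 :=
    of_mul_eq_one hA (FlatMor12.IdealModGen.isInvertible_idealMod _
      (isEffCartier_sec (C ↘ Spec (CommRingCat.of k)) x hx)) hAinv
  refine PicM.mul_right_cancel' ((?_ : _ = (1 : PicM C)).trans h.symm)
  rw [pow_two, mul_mul_mul_comm, hP, mul_one]

variable (ρ : ULift.{u} (Equiv.Perm (Fin 2)) →* Aut (Sq k C))
  (hρ : (ρ (ULift.up (Equiv.swap 0 1))).hom =
    (pullbackSymmetry (C ↘ Spec (CommRingCat.of k)) (C ↘ Spec (CommRingCat.of k))).hom)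
  {S : Scheme.{u}} (π : Sq k C ⟶ S) (hπ : SGA1.IsQuot ρ π)

include hρ hπ in
/-- Pullback to the square is injective on classes of the symmetric square. -/
theorem pull_sq_injective : Function.Injective (PicM.pull π) := by
  intro a b h
  obtain ⟨c, hc⟩ := PicM.exists_mul_eq_one b
  haveI := isIntegral_Sq k (C := C)
  haveI := isIntegral_C k (C := C)
  let d : C ⟶ Sq k C := pullback.diagonal (C ↘ Spec (CommRingCat.of k))
  refine pull_quot_injective hπ d (fun g => ?_) ?_ hc h
  · rcases rho_swap_or_one k ρ hρ g with rfl | rfl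
    · rw [map_one]; exact Category.comp_id _
    · rw [hρ]
      apply pullback.hom_ext
      · rw [Category.assoc, pullbackSymmetry_hom_comp_fst]
        exact (pullback.diagonal_snd _).trans (pullback.diagonal_fst _).symm
      · rw [Category.assoc, pullbackSymmetry_hom_comp_snd]
        exact (pullback.diagonal_fst _).trans (pullback.diagonal_snd _).symm
  · haveI : IsProper ((Sq k C) ↘ Spec (CommRingCat.of k)) := inferInstance
    letI := (isField_of_universallyClosed k ((Sq k C) ↘ Spec (CommRingCat.of k))).toField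
    exact RingHom.injective _

end Groth.Agent.HypSq5
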