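import Groth.Agent.HypSq5.GraphClass
import Groth.Agent.SGA1Quot.Basic
import Groth.Agent.SGA1Quot.Affine
import Groth.Agent.AbCubeLib.GenericRank
import Groth.Agent.AbCubeLib.FiniteDegree
import Groth.Agent.CycLib28.MultPos

/-!
# Intersection numbers on the symmetric square
-/

set_option autoImplicit false
set_option linter.style.haveILetI false
set_option linter.unusedSectionVars false
set_option backward.isDefEq.respectTransparency.types false
set_option maxHeartbeats 1000000

universe u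

open CategoryTheory CategoryTheory.Limits AlgebraicGeometry Opposite TopologicalSpace
open Groth.Agent.Coherent Groth.Agent.PicLib Groth.Agent.AmpleLib Groth.Agent.EulerLib Groth.Agent.CurveRR24
open Groth.Agent.AbCubeLib Groth.Agent.VarietyLib Groth.Agent.EllGrp5

namespace Groth.Agent.HypSq5

/-- A free algebra with invariants the base under a non-trivial involution has rank two. -/
theorem card_eq_two_of_involution {A B : Type*} [CommRing A] [CommRing B] [IsDomain A] [IsDomain B] [Algebra A B]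
    (hinj : Function.Injective (algebraMap A B)) (τ : B →+* B) (hτA : ∀ a, τ (algebraMap A B a) = algebraMap A B a)
    (hinv : ∀ b, τ b = b → ∃ a, algebraMap A B a = b) (hinvol : ∀ b, τ (τ b) = b) (hne : ∃ b, τ b ≠ b)
    (h2 : IsUnit (2 : B)) {n : ℕ} (bas : Module.Basis (Fin n) A B) : n = 2 := by
  haveI : Module.Finite A B := Module.Finite.of_basis bas
  haveI : Module.Free A B := Module.Free.of_basis bas
  obtain ⟨c, hc⟩ := hne
  let d := c - τ c
  have hd0 : d ≠ 0 := sub_ne_zero.2 hc.symm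
  have hd : τ d = -d := by
    show τ (c - τ c) = -(c - τ c)
    rw [map_sub, hinvol]; ring
  have hP : ∀ z : B, ∃ a, algebraMap A B a = z + τ z := fun z => hinv _ (by rw [map_add, hinvol, add_comm])
  have hQ : ∀ z : B, ∃ a, algebraMap A B a = (z - τ z) * d := fun z =>
    hinv _ (by rw [map_mul, map_sub, hinvol, hd]; ring)
  choose P hP using hP
  choose Q hQ using hQ
  have hsmul : ∀ (a : A) (z : B), τ (a • z) = algebraMap A B a * τ z := fun a z => by
    rw [Algebra.smul_def, map_mul, hτA]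
  let Φ : B →ₗ[A] A × A :=
    { toFun := fun z => (P z, Q z)
      map_add' := fun z w => Prod.ext (hinj (by rw [Prod.fst_add, map_add, hP, hP, hP, map_add]; ring))
        (hinj (by rw [Prod.snd_add, map_add, hQ, hQ, hQ, map_add]; ring))
      map_smul' := fun a z => Prod.ext
        (hinj (by rw [RingHom.id_apply, Prod.smul_fst, smul_eq_mul, map_mul, hP, hP, hsmul, Algebra.smul_def]; ring))
        (hinj (by rw [RingHom.id_apply, Prod.smul_snd, smul_eq_mul, map_mul, hQ, hQ, hsmul, Algebra.smul_def]; ring)) }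
  have hΦ : Function.Injective Φ := (injective_iff_map_eq_zero Φ).2 fun z hz => by
    have e1 : z + τ z = 0 := by rw [← hP, show P z = 0 from congrArg Prod.fst hz, map_zero]
    have e2 : (z - τ z) * d = 0 := by rw [← hQ, show Q z = 0 from congrArg Prod.snd hz, map_zero]
    have e3 : z - τ z = 0 := (mul_eq_zero.1 e2).resolve_right hd0
    have e4 : (2 : B) * z = 0 := by linear_combination e1 + e3
    exact (h2.mul_right_eq_zero).1 e4
  have hind : LinearIndependent A ![(1 : B), d] := by
    rw [Fintype.linearIndependent_iff]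
    intro g hg
    have h0 : algebraMap A B (g 0) + algebraMap A B (g 1) * d = 0 := by
      simpa [Fin.sum_univ_two, Algebra.smul_def] using hg
    have h1 : algebraMap A B (g 0) - algebraMap A B (g 1) * d = 0 := by
      have := congrArg τ h0
      rw [map_add, map_mul, hτA, hτA, hd, map_zero] at this
      linear_combination this
    have h3 : (2 : B) * algebraMap A B (g 0) = 0 := by linear_combination h0 + h1
    have h4 : algebraMap A B (g 0) = 0 := (h2.mul_right_eq_zero).1 h3
    rw [h4, zero_add, mul_eq_zero] at h0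
    exact Fin.forall_fin_two.2 ⟨hinj (h4.trans (map_zero _).symm),
      hinj ((h0.resolve_right hd0).trans (map_zero _).symm)⟩
  have ha := LinearMap.finrank_le_finrank_of_injective hΦ
  have hb := hind.fintype_card_le_finrank
  rw [Module.finrank_prod, Module.finrank_self, Module.finrank_eq_card_basis bas, Fintype.card_fin] at ha
  rw [Module.finrank_eq_card_basis bas, Fintype.card_fin, Fintype.card_fin] at hb
  omega

theorem appLE_id_apply {X : Scheme.{u}} (V : X.Opens) (h : V ≤ (𝟙 X : X ⟶ X) ⁻¹ᵁ V) (b : Γ(X, V)) :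
    (𝟙 X : X ⟶ X).appLE V V h b = b := by
  have e : (𝟙 X : X ⟶ X).appLE V V h = 𝟙 _ := by
    rw [Scheme.Hom.appLE, show (homOfLE h).op = 𝟙 _ from Subsingleton.elim _ _, Scheme.Hom.id_app]
    exact (Category.id_comp _).trans (X.presheaf.map_id _)
  rw [e]; rfl

variable (k : Type u) [Field k] {C : Scheme.{u}} [C.Over (Spec (CommRingCat.of k))]
  [IsProper (C ↘ Spec (CommRingCat.of k))] [Smooth (C ↘ Spec (CommRingCat.of k))] [ConnectedSpace ↥C]
  [IsAlgClosed k]
  (hdim : topologicalKrullDim ↥C = 1)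

include k in
theorem isIntegral_Sq : AlgebraicGeometry.IsIntegral (Sq k C) := by
  haveI := geomInt_C k (C := C)
  haveI := isIntegral_C k (C := C)
  haveI : IsLocallyNoetherian C := LocallyOfFiniteType.isLocallyNoetherian (C ↘ Spec (CommRingCat.of k))
  haveI : UniversallyOpen (C ↘ Spec (CommRingCat.of k)) := inferInstance
  exact inferInstanceAs (AlgebraicGeometry.IsIntegral (pullback (C ↘ Spec (CommRingCat.of k)) (C ↘ Spec (CommRingCat.of k))))

variable (ρ : ULift.{u} (Equiv.Perm (Fin 2)) →* Aut (Sq k C))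
  (hρ : (ρ (ULift.up (Equiv.swap 0 1))).hom =
    (pullbackSymmetry (C ↘ Spec (CommRingCat.of k)) (C ↘ Spec (CommRingCat.of k))).hom)
  {S : Scheme.{u}} (π : Sq k C ⟶ S) (hπ : SGA1.IsQuot ρ π) (q : S ⟶ Spec (CommRingCat.of k))
  (hq : π ≫ q = p₁ k C ≫ (C ↘ Spec (CommRingCat.of k)))

include hπ hq in
theorem quot_facts : AlgebraicGeometry.IsIntegral S ∧ IsProper q ∧ IsFinite π ∧
    (topologicalKrullDim ↥C = 1 → topologicalKrullDim ↥S ≤ ((2 : ℕ) : WithBot ℕ∞)) := by
  haveI := isIntegral_Sq k (C := C)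
  haveI := hπ.affine
  haveI hsurj := SGA1Quot.surjective hπ
  haveI : LocallyOfFiniteType (π ≫ q) := by rw [hq]; infer_instance
  haveI : IsProper (π ≫ q) := by rw [hq]; infer_instance
  haveI hfin := SGA1Quot.isFinite_of_locallyOfFiniteType hπ q
  haveI := SGA1Quot.locallyOfFiniteType_of_comp' hπ q
  haveI := SGA1Quot.isSeparated_of_comp hπ q
  haveI : UniversallyClosed q := UniversallyClosed.of_comp_surjective π q
  haveI : QuasiCompact q := inferInstance
  haveI hproper : IsProper q := {}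
  refine ⟨?_, hproper, hfin, fun hdim => ?_⟩
  · haveI : IrreducibleSpace ↥S := by
      haveI : Nonempty ↥S := ⟨π (genericPoint (Sq k C))⟩
      haveI := (inferInstance : IrreducibleSpace ↥(Sq k C))
      rw [irreducibleSpace_def]
      show IsIrreducible (Set.univ : Set ↥S)
      rw [← Set.range_eq_univ.2 hsurj.surj, ← Set.image_univ]
      exact (IrreducibleSpace.isIrreducible_univ _).image π π.continuous.continuousOn
    haveI : IsReduced S := ⟨fun U => isReduced_of_injective (π.app U).hom (hπ.injective U)⟩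
    exact isIntegral_of_irreducibleSpace_of_isReduced S
  · rw [DimLib.topologicalKrullDim_eq_iSup q]
    refine iSup_le fun y => ?_
    obtain ⟨z, rfl⟩ := hsurj.surj y
    refine le_trans ?_ ((DimLib.ptDim_le_topologicalKrullDim (π ≫ q) z).trans (dim_sq k hdim))
    exact_mod_cast DimLib.ptDim_apply_le q π z

include hρ in
theorem rho_swap_or_one (g : ULift.{u} (Equiv.Perm (Fin 2))) :
    g = 1 ∨ g = ULift.up (Equiv.swap 0 1) := by
  obtain ⟨g⟩ := g
  rcases (by decide +revert : g = 1 ∨ g = Equiv.swap 0 1) with h | h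
  · exact Or.inl (congrArg ULift.up h)
  · exact Or.inr (congrArg ULift.up h)

variable (σ : C ⟶ C) (hσ1 : σ ≠ 𝟙 C) (hσp : σ ≫ (C ↘ Spec (CommRingCat.of k)) = (C ↘ Spec (CommRingCat.of k)))
  (h2 : (2 : k) ≠ 0)

include hρ hπ hq hσ1 hσp h2 in
/-- The quotient map has degree two. -/
theorem genRank_push [AlgebraicGeometry.IsIntegral S] [IsProper q] [IsFinite π] :
    genRank ((Coh.push π).obj (Coh.structureModule (Sq k C))) = 2 := by
  haveI := isIntegral_Sq k (C := C)
  haveI : IsLocallyNoetherian S := LocallyOfFiniteType.isLocallyNoetherian q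
  haveI : IsLocallyNoetherian (Sq k C) := LocallyOfFiniteType.isLocallyNoetherian π
  have hE : Coh.IsCoh ((Coh.push π).obj (Coh.structureModule (Sq k C))) :=
    isCoh_push_finite π (isCoh_structureModule _)
  obtain ⟨U, hU, ⟨e⟩⟩ := SDiv28.GenRank.exists_open_free _ hE.1 hE.2
  obtain ⟨y, hy⟩ := hU
  obtain ⟨W, hW, hyW, hWU⟩ := exists_isAffineOpen_mem_and_subset (x := y) (U := U) hy
  obtain ⟨b⟩ := Props12.exists_basis_sections e hWU
  obtain ⟨z, hz⟩ := (SGA1Quot.surjective hπ).surj y
  haveI : Nonempty W := ⟨⟨y, hyW⟩⟩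
  haveI : Nonempty (π ⁻¹ᵁ W) := ⟨⟨z, show π z ∈ W from hz ▸ hyW⟩⟩
  have hV : IsAffineOpen (π ⁻¹ᵁ W) := hW.preimage π
  letI := (π.app W).hom.toAlgebra
  let b' : Module.Basis (Fin (genRank ((Coh.push π).obj (Coh.structureModule (Sq k C))))) Γ(S, W)
      Γ(Sq k C, π ⁻¹ᵁ W) :=
    b.map { toFun := fun x => x, invFun := fun x => x, map_add' := fun _ _ => rfl, map_smul' := fun _ _ => rfl }
  let sw := ULift.up.{u} (Equiv.swap (0 : Fin 2) 1)
  let τ := ((ρ sw).hom.appLE (π ⁻¹ᵁ W) (π ⁻¹ᵁ W) (SGA1.preimage_le_of_inv ρ π hπ.inv sw W)).hom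
  refine card_eq_two_of_involution (hπ.injective W) τ (fun a => ?_) (fun b hb => ?_) (fun b => ?_) ?_ ?_ b'
  · exact (hπ.range_iff W _).1 ⟨a, rfl⟩ sw
  · refine (hπ.range_iff W b).2 fun g => ?_
    rcases rho_swap_or_one k ρ hρ g with rfl | rfl
    · have key : ∀ (f : Sq k C ⟶ Sq k C) (hf : f = 𝟙 _) (h : π ⁻¹ᵁ W ≤ f ⁻¹ᵁ (π ⁻¹ᵁ W)),
          f.appLE (π ⁻¹ᵁ W) (π ⁻¹ᵁ W) h b = b := by
        rintro _ rfl h
        exact appLE_id_apply _ h _
      exact key _ (by rw [map_one]; rfl) _
    · exact hb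
  · have key : ∀ (f : Sq k C ⟶ Sq k C) (hf : f ≫ f = 𝟙 _) (h : π ⁻¹ᵁ W ≤ f ⁻¹ᵁ (π ⁻¹ᵁ W)) (c : Γ(Sq k C, π ⁻¹ᵁ W)),
        f.appLE (π ⁻¹ᵁ W) (π ⁻¹ᵁ W) h (f.appLE (π ⁻¹ᵁ W) (π ⁻¹ᵁ W) h c) = c := by
      intro f hf h c
      rw [← ConcreteCategory.comp_apply, Scheme.Hom.appLE_comp_appLE]
      have key2 : ∀ (g : Sq k C ⟶ Sq k C) (hg : g = 𝟙 _) (h : π ⁻¹ᵁ W ≤ g ⁻¹ᵁ (π ⁻¹ᵁ W)),
          g.appLE (π ⁻¹ᵁ W) (π ⁻¹ᵁ W) h c = c := by
        rintro _ rfl h
        exact appLE_id_apply _ h _
      exact key2 _ hf _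
    refine key _ ?_ _ b
    show (ρ sw).hom ≫ (ρ sw).hom = 𝟙 _
    rw [hρ]
    apply pullback.hom_ext <;> simp
  · by_contra hcon
    push Not at hcon
    have hfix : hV.fromSpec ≫ (ρ sw).hom = hV.fromSpec := by
      rw [← IsAffineOpen.SpecMap_appLE_fromSpec (ρ sw).hom hV hV (SGA1.preimage_le_of_inv ρ π hπ.inv sw W)]
      have : (ρ sw).hom.appLE (π ⁻¹ᵁ W) (π ⁻¹ᵁ W) (SGA1.preimage_le_of_inv ρ π hπ.inv sw W) = 𝟙 _ := by
        ext c
        exact hcon c
      rw [this, Spec.map_id, Category.id_comp]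
    haveI : IsDominant hV.fromSpec := by
      rw [isDominant_iff, DenseRange, hV.range_fromSpec]
      exact (π ⁻¹ᵁ W).2.dense ⟨z, show π z ∈ W from hz ▸ hyW⟩
    haveI : IsSeparated ((Sq k C) ↘ Spec (CommRingCat.of k)) := inferInstance
    have hid : (ρ sw).hom = 𝟙 _ := by
      refine ext_of_isDominant_of_isSeparated ((Sq k C) ↘ Spec (CommRingCat.of k)) ?_ hV.fromSpec
        (hfix.trans (Category.comp_id _).symm)
      rw [hρ, Category.id_comp]
      show (pullbackSymmetry _ _).hom ≫ pullback.fst _ _ ≫ _ = pullback.fst _ _ ≫ _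
      rw [← Category.assoc, pullbackSymmetry_hom_comp_fst, pullback.condition]
    rw [hρ] at hid
    have h12 : p₁ k C = p₂ k C := by
      have := congrArg (· ≫ p₂ k C) hid
      simp only [pullbackSymmetry_hom_comp_snd, Category.id_comp] at this
      exact this
    exact hσ1 (by rw [← gr_snd k σ hσp, ← h12, gr_fst])
  · have h : IsUnit (2 : k) := isUnit_iff_ne_zero.2 h2
    have h' := h.map ((Sq k C).presheaf.map (homOfLE (le_top : π ⁻¹ᵁ W ≤ ⊤)).op |>.hom.comp (baseHom k (Sq k C)))
    rwa [map_ofNat] at h'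

include hρ hπ hq hσ1 hσp h2 in
/-- Intersection numbers on the symmetric square are half of those on the square. -/
theorem two_intNum (hdim : topologicalKrullDim ↥C = 1) {M M' : S.Modules} (hM : PicF.IsInvertible M)
    (hM' : PicF.IsInvertible M') :
    letI : S.Over (Spec (CommRingCat.of k)) := ⟨q⟩
    2 * FGA.intNum k S 2 ![M, M'] (Coh.structureModule S) =
      BX k (PicM.pull π (PicM.of hM)) (PicM.pull π (PicM.of hM')) := by
  letI : S.Over (Spec (CommRingCat.of k)) := ⟨q⟩
  obtain ⟨hint, hprop, hfin, hd⟩ := quot_facts k ρ π hπ q hq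
  haveI := hint
  haveI := hfin
  haveI := hprop
  haveI : IsProper (S ↘ Spec (CommRingCat.of k)) := hprop
  haveI := isNoetherian_of_proper (X := S) k
  haveI := isNoetherian_of_proper (X := Sq k C) k
  have hd2 := hd hdim
  have hE : Coh.IsCoh ((Coh.push π).obj (Coh.structureModule (Sq k C))) :=
    isCoh_push_finite π (isCoh_structureModule _)
  let c : Fin 2 → InvCl S := Fin.cons (InvCl.mk M hM) (Fin.cons (InvCl.mk M' hM') Fin.elim0)
  have h1 : interDeg c (chiCl k (Coh.structureModule S)) =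
      FGA.intNum k S 2 ![M, M'] (Coh.structureModule S) := by
    rw [Surf15.intNum_eq_B k hd2 hM hM', Surf15.B_eq_interDeg]
  have hX : BX k (PicM.pull π (PicM.of hM)) (PicM.pull π (PicM.of hM')) =
      interDeg c (chiCl k ((Coh.push π).obj (Coh.structureModule (Sq k C)))) := by
    rw [show chiCl k ((Coh.push π).obj (Coh.structureModule (Sq k C))) =
      fun x => chiCl k (Coh.structureModule (Sq k C)) (pullHom π x) from
        funext fun x => chiCl_push k π hq (isCoh_structureModule _) x, ← interDeg_monoidHom]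
    rw [BX, chi, chi, chi, chi, map_mul, map_one, invOf_pull, invOf_pull, invOf_of, invOf_of]
    rw [show (fun i => pullHom π (c i)) = (Fin.cons (pullHom π (InvCl.mk M hM))
      (Fin.cons (pullHom π (InvCl.mk M' hM')) Fin.elim0) : Fin 2 → InvCl (Sq k C)) from
        funext fun i => by fin_cases i <;> rfl, ← Surf15.B_eq_interDeg, Surf15.B]
  rw [hX, interDeg_eq_genRank k hd2 c _ hE, ← h1, interDeg_eq_genRank k hd2 c _ (isCoh_structureModule S),
    genRank_structureModule, genRank_push k ρ hρ π hπ q hq σ hσ1 hσp h2]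
  push_cast
  ring

include hdim in
theorem BX_eq_B (a b : PicM (Sq k C)) : BX k a b = Surf15.B k (invOf a) (invOf b) := by
  rw [BX, Surf15.B, chi, chi, chi, chi, map_mul, map_one]

include hdim in
theorem BX_mul_left (a b c : PicM (Sq k C)) : BX k (a * b) c = BX k a c + BX k b c := by
  rw [BX_eq_B k hdim, BX_eq_B k hdim, BX_eq_B k hdim, map_mul, Surf15.B_mul_left k (dim_sq k hdim)]

include hdim in
theorem BX_comm (a b : PicM (Sq k C)) : BX k a b = BX k b a := by
  rw [BX, BX, mul_comm]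
  ring

include hdim in
theorem BX_mul_right (a b c : PicM (Sq k C)) : BX k a (b * c) = BX k a b + BX k a c := by
  rw [BX_comm k hdim, BX_mul_left k hdim, BX_comm k hdim b, BX_comm k hdim c]

include hdim in
theorem BX_snd_snd (a b : PicM C) : BX k (PicM.pull (p₂ k C) a) (PicM.pull (p₂ k C) b) = 0 := by
  have h : ∀ c : PicM C, chi k (PicM.pull (p₂ k C) c) = chiC k (1 : PicM C) * chiC k c := fun c => by
    rw [← chi_box k hdim 1 c, map_one, one_mul]
  rw [BX, ← map_mul, h, h, h, chi_one k hdim, chiC_eq k hdim, chiC_eq k hdim, chiC_eq k hdim, chiC_eq k hdim,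
    dC_mul k hdim, dC_one]
  ring

end Groth.Agent.HypSq5
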