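import Groth.Agent.HypSq5.Seq
import Groth.Agent.HypSq5.Numbers
import Groth.Agent.AbCohLib.IndexAdd
import Groth.Agent.CurveRR24.Section
import Groth.Agent.CurveRR24.Degree

/-!
# Cohomology of `F_m ⊗ N^r` on the square of a hyperelliptic curve
-/

set_option autoImplicit false
set_option linter.style.haveILetI false
set_option linter.unusedSectionVars false
set_option backward.isDefEq.respectTransparency.types false
set_option maxHeartbeats 1000000

universe u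

open CategoryTheory CategoryTheory.Limits AlgebraicGeometry Opposite TopologicalSpace
open Groth.Agent.Coherent Groth.Agent.PicLib Groth.Agent.AmpleLib Groth.Agent.EulerLib Groth.Agent.CurveRR24
open Groth.Agent.AbCubeLib Groth.Agent.VarietyLib Groth.Agent.EllGrp5

namespace Groth.Agent.HypSq5

variable (k : Type u) [Field k] {C : Scheme.{u}} [C.Over (Spec (CommRingCat.of k))]
  [IsProper (C ↘ Spec (CommRingCat.of k))] [Smooth (C ↘ Spec (CommRingCat.of k))] [ConnectedSpace ↥C]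
  [IsAlgClosed k]
  (hdim : topologicalKrullDim ↥C = 1)

include hdim

theorem hh1_eq_zero {a : PicM C} (h : 2 * (Curv2.genus k C : ℤ) - 2 < dC k a) : hh k 1 a = 0 := by
  obtain ⟨L, hL, rfl⟩ := PicM.exists_eq_of a
  haveI := isIntegral_C k (C := C)
  rw [dC_of k hL] at h
  exact (hh_eq_zero_iff k hL 1).2 (subsingleton_h1_of_deg k hdim.le (h0_C k) hL h)

theorem hh0_eq_zero {a : PicM C} (h : dC k a < 0) : hh k 0 a = 0 := by
  obtain ⟨L, hL, rfl⟩ := PicM.exists_eq_of a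
  haveI := isIntegral_C k (C := C)
  rw [dC_of k hL] at h
  exact (hh_eq_zero_iff k hL 0).2 (subsingleton_h0_of_deg_neg k hdim.le hL h)

theorem hh_rr (a : PicM C) : (hh k 0 a : ℤ) - hh k 1 a = dC k a + 1 - (Curv2.genus k C : ℤ) := by
  obtain ⟨L, hL, rfl⟩ := PicM.exists_eq_of a
  rw [hh_of, hh_of, dC_of k hL, riemann_roch k hdim.le hL, h0_C k, Nat.cast_one]

/-- `χ = h⁰ - h¹ + h²` on the square. -/
theorem chi_eq_hh (x : PicM (Sq k C)) :
    chi k x = (hh k 0 x : ℤ) - hh k 1 x + hh k 2 x := by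
  obtain ⟨L, hL, rfl⟩ := PicM.exists_eq_of x
  haveI := AmpleLib.isQCoh_of_isInvertible hL
  haveI := isNoetherian_of_proper (X := Sq k C) k
  haveI : (Sq k C).IsSeparated := ⟨by rw [← terminal.comp_from ((Sq k C) ↘ Spec (CommRingCat.of k))]; infer_instance⟩
  rw [← euler_eq_chi k hL, euler_eq_sum k _ L 2 fun q hq =>
      subsingleton_HH_of_dim (X := Sq k C) L (d := 2) (dim_sq k hdim) hq, hh_of, hh_of, hh_of,
    Finset.sum_range_succ, Finset.sum_range_succ, Finset.sum_range_one]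
  ring

variable (κ : C ⟶ CohB1.ProjSpace 1 k) (hκ : κ ≫ CohB1.ProjSpace.toSpec 1 k = (C ↘ Spec (CommRingCat.of k)))
  [IsFinite κ] [Flat κ] (hκ2 : ∀ y : ↥(CohB1.ProjSpace 1 k), κ.finrank y = 2)

include hκ hκ2

/-- `h⁰(L^s) = s + 1` for `s < g`. -/
theorem hh0_cL (s : ℕ) (hs : s + 1 ≤ Curv2.genus k C) : hh k 0 (cL k κ ^ s) = s + 1 := by
  haveI := isIntegral_C k (C := C)
  haveI := geomInt_C k (C := C)
  obtain ⟨hL, hdeg, h2⟩ := Clifford24.pbO_spec k hdim κ hκ hκ2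
  rw [← of_tensorPow_L k κ s (AmpleLib.isInvertible_tensorPow (isInvertible_L k κ) s), hh_of]
  exact Clifford24.h0_tensorPow k hdim hL hdeg h2 s hs

theorem hh_cF (m : ℕ) (hm : Curv2.genus k C ≤ m) : hh k 1 (cF k κ m) = 0 ∧ hh k 2 (cF k κ m) = 0 := by
  have hLm := AmpleLib.isInvertible_tensorPow (isInvertible_L k κ) m
  have hP1 := PicLoc.isInvertible_pullback (p₁ k C) hLm
  have hP2 := PicLoc.isInvertible_pullback (p₂ k C) hLm
  have e : cF k κ m = PicM.of (AmpleLib.isInvertible_tensorMod hP1 hP2) := by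
    rw [cF, ← of_tensorPow_L k κ m hLm]
    rfl
  have h1 : Subsingleton (Coh.HH C (CohB1.tensorPow ((Scheme.Modules.pullback κ).obj (Twist.twistProjSpace 1 k 1)) m) 1) := by
    rw [← hh_eq_zero_iff k hLm, of_tensorPow_L k κ m]
    refine hh1_eq_zero k hdim ?_
    rw [dC_pow k hdim, dC_cL k hdim κ hκ hκ2]
    omega
  have h2 : ∀ j, 2 ≤ j → Subsingleton
      (Coh.HH C (CohB1.tensorPow ((Scheme.Modules.pullback κ).obj (Twist.twistProjSpace 1 k 1)) m) j) :=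
    fun j hj => subsingleton_HH_ge_two k hdim.le _ (isCoh_of_isInvertible k hLm).1 hj
  haveI : IsProper (Over.mk (C ↘ Spec (CommRingCat.of k))).hom := ‹IsProper _›
  have key : ∀ n, 1 ≤ n → hh k n (cF k κ m) = 0 := fun n hn => by
    rw [e, hh_eq_zero_iff]
    refine AbCohLib.subsingleton_boxM_of_diag (Over.mk (C ↘ Spec (CommRingCat.of k)))
      (Over.mk (C ↘ Spec (CommRingCat.of k))) _ _ hLm hLm n fun i j hij => ?_
    rcases Nat.eq_zero_or_pos i with rfl | hi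
    · right
      rcases Nat.lt_or_ge j 2 with hj | hj
      · rw [show j = 1 by omega]; exact h1
      · exact h2 j hj
    · left
      rcases Nat.lt_or_ge i 2 with hi' | hi'
      · rw [show i = 1 by omega]; exact h1
      · exact h2 i hi'
  exact ⟨key 1 le_rfl, key 2 one_le_two⟩

variable (σ : C ⟶ C) (hσ : σ ≫ κ = κ) (hσp : σ ≫ (C ↘ Spec (CommRingCat.of k)) = (C ↘ Spec (CommRingCat.of k)))
  (hg : 1 ≤ Curv2.genus k C) {n : PicM (Sq k C)} (hn : n * idlG k hdim σ hσp = 1)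
  (m : ℕ) (hm : Curv2.genus k C ≤ m)

include hσ hg hn

theorem pull_gr_Fn (r s : ℕ) (hs : (s : ℤ) = 2 * (m : ℤ) - ((Curv2.genus k C : ℤ) - 1) * r) :
    PicM.pull (gr k σ hσp) (cF k κ m * n ^ r) = cL k κ ^ s := by
  have h := congrArg (PicM.pull (gr k σ hσp)) hn
  rw [map_mul, map_one, pull_gr_idlG k hdim κ hκ hκ2 σ hσ hσp hg] at h
  have h2m : 2 * m = s + (Curv2.genus k C - 1) * r := by
    have : ((2 * m : ℕ) : ℤ) = ((s + (Curv2.genus k C - 1) * r : ℕ) : ℤ) := by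
      push_cast [Nat.cast_sub hg]
      linarith
    exact_mod_cast this
  rw [map_mul, pull_gr_cF k hdim κ σ hσp hσ, map_pow, h2m, pow_add, pow_mul, mul_assoc, ← mul_pow,
    mul_comm _ (PicM.pull _ _), h, one_pow, mul_one]

theorem dC_Fn (r : ℕ) : dC k (PicM.pull (gr k σ hσp) (cF k κ m * n ^ r)) =
    4 * (m : ℤ) - 2 * ((Curv2.genus k C : ℤ) - 1) * r := by
  rw [map_mul, dC_mul k hdim, pull_gr_cF k hdim κ σ hσp hσ, map_pow, dC_pow k hdim, dC_pow k hdim,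
    dC_cL k hdim κ hκ hκ2,
    dC_pull_inv k hdim κ hκ hκ2 σ hσp (pull_gr_idlG k hdim κ hκ hκ2 σ hσ hσp hg) hg hn]
  push_cast
  ring

include hm

theorem hh2_Fn : ∀ r : ℕ, hh k 2 (cF k κ m * n ^ r) = 0
  | 0 => by rw [pow_zero, mul_one]; exact (hh_cF k hdim κ hκ hκ2 m hm).2
  | r + 1 => by
    have h := (les k hdim σ hσp hn (cF k κ m * n ^ r)).1
    rw [mul_left_comm, ← pow_succ', hh2_Fn r] at h
    omega

theorem hh1_Fn : ∀ r : ℕ, ((Curv2.genus k C : ℤ) - 1) * (r + 1) < 2 * m → hh k 1 (cF k κ m * n ^ r) = 0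
  | 0 => fun _ => by rw [pow_zero, mul_one]; exact (hh_cF k hdim κ hκ hκ2 m hm).1
  | r + 1 => fun hr => by
    have hγ : (0 : ℤ) ≤ (Curv2.genus k C : ℤ) - 1 := by omega
    have h0 := hh1_Fn r (by push_cast at hr; nlinarith)
    have h := (les k hdim σ hσp hn (cF k κ m * n ^ r)).2.1
    rw [mul_left_comm, ← pow_succ', h0] at h
    have h1 : hh k 1 (PicM.pull (gr k σ hσp) (cF k κ m * n ^ (r + 1))) = 0 := by
      refine hh1_eq_zero k hdim ?_
      rw [dC_Fn k hdim κ hκ hκ2 σ hσ hσp hg hn]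
      push_cast at hr ⊢
      linarith
    omega

theorem hh0_Fn (r : ℕ) (hr : ((Curv2.genus k C : ℤ) - 1) * (r + 1) < 2 * m) :
    (hh k 0 (cF k κ m * n ^ r) : ℤ) = (2 * (m : ℤ) - ((Curv2.genus k C : ℤ) - 1)) ^ 2 + 4 * (m : ℤ) * r -
      ((Curv2.genus k C : ℤ) - 1) * r * (r + 2) := by
  have h := chi_eq_hh k hdim (cF k κ m * n ^ r)
  rw [hh1_Fn k hdim κ hκ hκ2 σ hσ hσp hg hn m hm r hr, hh2_Fn k hdim κ hκ hκ2 σ hσ hσp hg hn m hm r,
    chi_cF_pow k hdim κ hκ hκ2 σ hσ hσp hg hn] at h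
  rw [h]
  simp

/-- The step along the graph when the restriction has degree above `0`. -/
theorem hh0_step_pos (r s : ℕ) (hs0 : 0 < s)
    (hs : (s : ℤ) = 2 * (m : ℤ) - ((Curv2.genus k C : ℤ) - 1) * (r + 1 : ℕ)) :
    hh k 0 (cF k κ m * n ^ (r + 1)) = hh k 0 (cF k κ m * n ^ r) + hh k 0 (cL k κ ^ s) := by
  have h1 := hh1_Fn k hdim κ hκ hκ2 σ hσ hσp hg hn m hm r (by push_cast at hs; linarith)
  have h := (les k hdim σ hσp hn (cF k κ m * n ^ r)).2.2.1 h1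
  rwa [mul_left_comm, ← pow_succ', pull_gr_Fn k hdim κ hκ hκ2 σ hσ hσp hg hn m _ s hs] at h

/-- The step along the graph when the restriction has negative degree. -/
theorem hh0_step_neg (r : ℕ) (hr : 2 * (m : ℤ) < ((Curv2.genus k C : ℤ) - 1) * (r + 1 : ℕ)) :
    hh k 0 (cF k κ m * n ^ (r + 1)) = hh k 0 (cF k κ m * n ^ r) := by
  have h := (les k hdim σ hσp hn (cF k κ m * n ^ r)).2.2.2.2
  rw [mul_left_comm, ← pow_succ'] at h
  refine h (hh0_eq_zero k hdim ?_)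
  rw [dC_Fn k hdim κ hκ hκ2 σ hσ hσp hg hn]
  linarith

/-- The first jump of `h¹`. -/
theorem hh_edge (r : ℕ) (hpos : ((Curv2.genus k C : ℤ) - 1) * r < 2 * m)
    (hle : 2 * (m : ℤ) ≤ ((Curv2.genus k C : ℤ) - 1) * (r + 1)) :
    (hh k 1 (cF k κ m * n ^ r) : ℤ) = (Curv2.genus k C : ℤ) - (2 * (m : ℤ) - ((Curv2.genus k C : ℤ) - 1) * r) ∧
      (hh k 0 (cF k κ m * n ^ r) : ℤ) = (2 * (m : ℤ) - ((Curv2.genus k C : ℤ) - 1)) ^ 2 + 4 * (m : ℤ) * r -
        ((Curv2.genus k C : ℤ) - 1) * r * (r + 1) - 2 * m + Curv2.genus k C := by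
  obtain ⟨r', rfl⟩ : ∃ r', r = r' + 1 := by
    refine Nat.exists_eq_add_one.2 (Nat.pos_of_ne_zero ?_)
    rintro rfl
    push_cast at hle
    omega
  obtain ⟨s, hs⟩ := Int.eq_ofNat_of_zero_le
    (show (0 : ℤ) ≤ 2 * (m : ℤ) - ((Curv2.genus k C : ℤ) - 1) * (r' + 1 : ℕ) by push_cast at hpos ⊢; linarith)
  have hr' : ((Curv2.genus k C : ℤ) - 1) * (r' + 1) < 2 * m := by push_cast at hpos; linarith
  have hsg : s + 1 ≤ Curv2.genus k C := by push_cast at hle hs; nlinarith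
  have hC0 := hh0_cL k hdim κ hκ hκ2 s hsg
  have hC1 := hh_rr k hdim (cL k κ ^ s)
  rw [hC0, dC_pow k hdim, dC_cL k hdim κ hκ hκ2] at hC1
  have h1 := (les k hdim σ hσp hn (cF k κ m * n ^ r')).2.2.2.1
    (hh1_Fn k hdim κ hκ hκ2 σ hσ hσp hg hn m hm r' hr') (hh2_Fn k hdim κ hκ hκ2 σ hσ hσp hg hn m hm r')
  rw [mul_left_comm, ← pow_succ', pull_gr_Fn k hdim κ hκ hκ2 σ hσ hσp hg hn m _ s hs.symm] at h1
  refine ⟨?_, ?_⟩
  · rw [h1]
    push_cast at hC1 hs ⊢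
    linarith
  · have h0 := hh0_step_pos k hdim κ hκ hκ2 σ hσ hσp hg hn m hm r' s
      (by push_cast at hs hpos; omega) hs.symm
    rw [h0, hC0]
    push_cast
    rw [hh0_Fn k hdim κ hκ hκ2 σ hσ hσp hg hn m hm r' hr']
    push_cast at hs
    linear_combination hs.symm

/-- Past the last jump, `h⁰` is constant. -/
theorem hh0_stable (q : ℕ) : ∀ d : ℕ, 2 * (m : ℤ) < ((Curv2.genus k C : ℤ) - 1) * (q + 1 : ℕ) →
    hh k 0 (cF k κ m * n ^ (q + d)) = hh k 0 (cF k κ m * n ^ q)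
  | 0 => fun _ => rfl
  | d + 1 => fun h => by
    rw [← add_assoc, hh0_step_neg k hdim κ hκ hκ2 σ hσ hσp hg hn m hm (q + d) ?_, hh0_stable q d h]
    have hγ : (0 : ℤ) ≤ (Curv2.genus k C : ℤ) - 1 := by omega
    push_cast at h ⊢
    nlinarith

end Groth.Agent.HypSq5
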